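import Cfsg.Agent.CGT.Walk

/-!
# Certified coset enumeration

Given a group `G`, elements `γ c`, a subgroup `H` and permutation networks `ns` (the claimed action on the cosets),
we build `τ : ℕ → G ⧸ H` with `τ 0 = H` and `τ (c · p) = γ c • τ p`.  The state `K` is a bit set: bit `B * c + p`
says that the edge `(p, c)` is known to be respected by `τ`.
-/

namespace CL.CGT

noncomputable section

/-- normalise `x` to a literal before continuing. -/
def nrm {α : Type} (x : ℕ) (k : ℕ → α) : α :=
  @Nat.rec (fun _ => α) (k 0) (fun n _ => k (Nat.succ n)) x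

@[simp] theorem nrm_eq {α : Type} (x : ℕ) (k : ℕ → α) : nrm x k = k x := by
  cases x <;> rfl

/-- `n` letters of the table `RT` from position `s`. -/
def seg (RT : ℕ) (n : ℕ) : ℕ → List ℕ :=
  @Nat.rec (fun _ => ℕ → List ℕ) (fun _ => []) (fun _ ih s => dig RT 8 s :: ih (Nat.succ s)) n

@[simp] theorem seg_zero (RT s : ℕ) : seg RT 0 s = [] := rfl
@[simp] theorem seg_succ (RT n s : ℕ) : seg RT (n + 1) s = dig RT 8 s :: seg RT n (s + 1) := rfl

theorem seg_add (RT m n s : ℕ) : seg RT (m + n) s = seg RT m s ++ seg RT n (s + m) := by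
  induction m generalizing s with
  | zero => simp
  | succ m ih =>
    rw [show m + 1 + n = (m + n) + 1 by omega, seg_succ, seg_succ, ih, show s + 1 + m = s + (m + 1) by omega]
    rfl

/-- `revMap iv l acc = (l.map iv).reverse ++ acc`. -/
def revMap (iv : ℕ → ℕ) (l : List ℕ) : List ℕ → List ℕ :=
  @List.rec ℕ (fun _ => List ℕ → List ℕ) (fun acc => acc) (fun c _ ih acc => ih (iv c :: acc)) l

theorem revMap_eq (iv : ℕ → ℕ) (l acc : List ℕ) : revMap iv l acc = (l.map iv).reverse ++ acc := by
  induction l generalizing acc with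
  | nil => rfl
  | cons c l ih => exact (ih (iv c :: acc)).trans (by simp)

/-- add the edges `(p, c)`, `p ∈ D`, to the state. -/
def addK (B K c D : ℕ) : ℕ := Nat.lor K (Nat.shiftLeft (Nat.land D (ones B)) (Nat.mul B c))

/-- the points from which the whole walk `l` uses known edges. -/
def okW (B : ℕ) (ns : List Net) (K : ℕ) (l : List ℕ) : ℕ :=
  @List.rec ℕ (fun _ => ℕ) (ones B)
    (fun c tl ih => @List.rec ℕ (fun _ => ℕ) (dig K B c)
      (fun _ _ _ => frc ih (Nat.land (dig K B c) ((net ns c).pull ih))) tl) l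

/-- the points `p` such that the walk `l` from `c · p` uses known edges. -/
def okP (B : ℕ) (ns : List Net) (K c : ℕ) (l : List ℕ) : ℕ :=
  @List.rec ℕ (fun _ => ℕ) (ones B) (fun _ _ _ => (net ns c).pull (okW B ns K l)) l

/-- deduction from a relation `c :: u = d :: v`. -/
def bothK (B : ℕ) (ns : List Net) (K c : ℕ) (u : List ℕ) (w : List ℕ) : ℕ :=
  @List.rec ℕ (fun _ => ℕ) K
    (fun d v _ =>
      let X := Nat.land (okP B ns K c u) (okP B ns K d v)
      addK B (addK B K c (Nat.land X (dig K B d))) d (Nat.land X (dig K B c))) w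

/-- one step along a justification path. -/
def pathStep (B : ℕ) (ns : List Net) (iv : ℕ → ℕ) (RT K FT k : ℕ) (ih : ℕ → ℕ → ℕ → Bool)
    (x i z : ℕ) : Bool :=
  @Nat.rec (fun _ => Bool)
    (nrm (dig RT 8 i) fun c =>
      band (Nat.ble (Nat.succ x) B) (band (tb (dig K B c) x)
        (ih ((net ns c).app x) (Nat.succ i) (Nat.shiftRight z 16))))
    (fun y _ =>
      let r := dig FT 64 (Nat.shiftRight y 1)
      let c := Nat.shiftRight r 48
      band (Nat.ble (Nat.succ (Nat.shiftRight y 1)) k)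
        (cnd (Nat.beq (Nat.land y 1) 0)
          (band (Nat.beq x (dig r 24 0))
            (cnd (Nat.beq c 255) (ih (dig r 24 1) i (Nat.shiftRight z 16))
              (band (Nat.beq c (dig RT 8 i)) (ih (dig r 24 1) (Nat.succ i) (Nat.shiftRight z 16)))))
          (band (Nat.beq x (dig r 24 1))
            (cnd (Nat.beq c 255) (ih (dig r 24 0) i (Nat.shiftRight z 16))
              (band (Nat.beq (iv c) (dig RT 8 i))
                (ih (dig r 24 0) (Nat.succ i) (Nat.shiftRight z 16)))))))
    (Nat.land z 65535)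

/-- walk along a justification path. -/
def pathRun (B : ℕ) (ns : List Net) (iv : ℕ → ℕ) (RT K FT k a e : ℕ) (cnt : ℕ) : ℕ → ℕ → ℕ → Bool :=
  @Nat.rec (fun _ => ℕ → ℕ → ℕ → Bool) (fun x i _ => band (Nat.beq x a) (Nat.beq i e))
    (fun _ ih x i z => pathStep B ns iv RT K FT k ih x i z) cnt

/-- check fact number `k` with justification `z`. -/
def chkFact (B : ℕ) (ns : List Net) (iv : ℕ → ℕ) (RT LT K FT k z : ℕ) : Bool :=
  let r := dig FT 64 k
  let c := Nat.shiftRight r 48
  band (Nat.ble (Nat.succ (dig r 24 0)) (Nat.add B k))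
    (@Nat.rec (fun _ => Bool) (Nat.beq (dig r 24 1) (Nat.add B k))
      (fun s _ =>
        band (Nat.ble (Nat.succ (dig r 24 1)) (Nat.add B k))
          (cnd (Nat.beq c 255)
            (pathRun B ns iv RT K FT k (dig r 24 0) (Nat.add s (dig LT 16 s)) (dig z 16 1)
              (dig r 24 1) s (Nat.shiftRight z 32))
            (band (Nat.beq c (dig RT 8 s))
              (pathRun B ns iv RT K FT k (dig r 24 0) (Nat.add s (dig LT 16 s)) (dig z 16 1)
                (dig r 24 1) (Nat.succ s) (Nat.shiftRight z 32)))))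
      (Nat.land z 65535))

/-- add the goal facts (indices `< n`) to the state. -/
def addGoals (B : ℕ) (ns : List Net) (FT n : ℕ) (goals : List ℕ) : ℕ → ℕ :=
  @List.rec ℕ (fun _ => ℕ → ℕ) (fun K => K)
    (fun g _ ih K =>
      let r := dig FT 64 g
      let c := Nat.shiftRight r 48
      ih (cnd (band (Nat.ble (Nat.succ g) n) (band (Nat.ble (Nat.succ (dig r 24 0)) B)
          (Nat.beq ((net ns c).app (dig r 24 0)) (dig r 24 1))))
        (addK B K c (sing (dig r 24 0))) K)) goals

/-- check all facts, then add the goals. -/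
def locK (B : ℕ) (ns : List Net) (iv : ℕ → ℕ) (RT LT K FT : ℕ) (goals : List ℕ) (J : List ℕ) : ℕ → ℕ :=
  @List.rec ℕ (fun _ => ℕ → ℕ) (fun k => addGoals B ns FT k goals K)
    (fun z _ ih k => cnd (chkFact B ns iv RT LT K FT k z) (nrm (Nat.succ k) ih) K) J

/-- steps of a coset enumeration certificate. -/
inductive Step : Type
  | both (s i : ℕ) : Step
  | sym (c : ℕ) : Step
  | base (c : ℕ) : Step
  | loc (FT : ℕ) (goals : List ℕ) (J : List ℕ) : Step

/-- one step. -/
def stepK (B : ℕ) (ns : List Net) (iv : ℕ → ℕ) (RT LT P0 HM : ℕ) (st : Step) (K : ℕ) : ℕ :=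
  @Step.rec (fun _ => ℕ)
    (fun s i => cnd (band (Nat.ble (Nat.succ s) P0) (Nat.ble (Nat.succ i) (dig LT 16 s)))
      (bothK B ns K (dig RT 8 s) (seg RT i (Nat.succ s))
        (revMap iv (seg RT (Nat.sub (dig LT 16 s) (Nat.succ i)) (Nat.add (Nat.succ s) i)) [])) K)
    (fun c => addK B K (iv c) ((net ns (iv c)).pull (dig K B c)))
    (fun c => cnd (band (tb HM c) (Nat.beq ((net ns c).app 0) 0)) (addK B K c 1) K)
    (fun FT goals J => locK B ns iv RT LT K FT goals J 0) st

/-- a list of steps. -/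
def runK (B : ℕ) (ns : List Net) (iv : ℕ → ℕ) (RT LT P0 HM : ℕ) (steps : List Step) : ℕ → ℕ :=
  @List.rec Step (fun _ => ℕ → ℕ) (fun K => K)
    (fun st _ ih K => frc K (ih (stepK B ns iv RT LT P0 HM st K))) steps

/-- the spanning tree phase. -/
def treeK (B : ℕ) (ns : List Net) (steps : List ℕ) : ℕ → ℕ → ℕ :=
  @List.rec ℕ (fun _ => ℕ → ℕ → ℕ) (fun _ K => K)
    (fun c _ ih V K =>
      let V' := Nat.lor V ((net ns c).pull V)
      frc V' (frc K (ih V' (addK B K c (Nat.xor V' V))))) steps

/-- hypotheses on the data of a coset enumeration. -/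
structure TCHyp {G : Type*} [Group G] (γ : ℕ → G) (H : Subgroup G) (B : ℕ) (ns : List Net) (iv : ℕ → ℕ)
    (RT LT P0 HM : ℕ) : Prop where
  ok : netsOK B ns = true
  ivG : ∀ c, γ (iv c) = (γ c)⁻¹
  ivP : ∀ c p, (net ns (iv c)).app ((net ns c).app p) = p
  segG : ∀ s, wval γ (seg RT (dig LT 16 s) s) = 1
  segP : ∀ s < P0, ∀ p, walk ns (seg RT (dig LT 16 s) s) p = p
  base : ∀ c, HM.testBit c = true → γ c ∈ H
  eps : γ 255 = 1

section sound
variable {G : Type*} [Group G] {γ : ℕ → G} {H : Subgroup G} {B : ℕ} {ns : List Net} {iv : ℕ → ℕ}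
  {RT LT P0 HM : ℕ}

/-- the edges recorded in `K` are respected by `τ`. -/
def Snd (γ : ℕ → G) (H : Subgroup G) (B : ℕ) (ns : List Net) (τ : ℕ → G ⧸ H) (K : ℕ) : Prop :=
  ∀ c p, (dig K B c).testBit p = true → τ ((net ns c).app p) = γ c • τ p

theorem testBit_dig_addK {K c D c' p : ℕ} (h : (dig (addK B K c D) B c').testBit p = true) :
    (dig K B c').testBit p = true ∨ (c' = c ∧ p < B ∧ D.testBit p = true) := by
  simp only [addK, testBit_dig, testBit_lor, testBit_shl, testBit_land, testBit_ones, Nat.mul_eq,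
    Bool.and_eq_true, Bool.or_eq_true, decide_eq_true_eq] at h ⊢
  obtain ⟨h1 | ⟨h1, h2, h3⟩, hp⟩ := h
  · exact Or.inl ⟨h1, hp⟩
  · right
    have hc : c' = c := by
      rcases lt_trichotomy c' c with h4 | h4 | h4
      · have : B * (c' + 1) ≤ B * c := Nat.mul_le_mul_left _ h4
        rw [Nat.mul_add_one] at this; omega
      · exact h4
      · have : B * (c + 1) ≤ B * c' := Nat.mul_le_mul_left _ h4
        rw [Nat.mul_add_one] at this; omega
    subst hc
    rw [Nat.add_sub_cancel_left] at h2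
    exact ⟨rfl, hp, h2⟩

theorem Snd.addK {τ : ℕ → G ⧸ H} {K c D : ℕ} (h : Snd γ H B ns τ K)
    (hD : ∀ p < B, D.testBit p = true → τ ((net ns c).app p) = γ c • τ p) :
    Snd γ H B ns τ (addK B K c D) := by
  intro c' p hp
  rcases testBit_dig_addK hp with h1 | ⟨rfl, h1, h2⟩
  · exact h c' p h1
  · exact hD p h1 h2

theorem Snd.of_sub {τ : ℕ → G ⧸ H} {K K' : ℕ} (h : Snd γ H B ns τ K) (hs : sub K' K = true) :
    Snd γ H B ns τ K' := by
  intro c p hp
  apply h c p
  rw [testBit_dig, Bool.and_eq_true] at hp ⊢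
  exact ⟨sub_spec hs hp.1, hp.2⟩

theorem Snd.okW (hok : netsOK B ns = true) {τ : ℕ → G ⧸ H} {K : ℕ} (h : Snd γ H B ns τ K) {l : List ℕ}
    {p : ℕ} (hp : (okW B ns K l).testBit p = true) : τ (walk ns l p) = wval γ l • τ p := by
  induction l generalizing p with
  | nil => simp
  | cons c l ih =>
    cases l with
    | nil =>
      have : (dig K B c).testBit p = true := hp
      simpa using h c p this
    | cons d l =>
      have e : CGT.okW B ns K (c :: d :: l) =
          Nat.land (dig K B c) ((net ns c).pull (CGT.okW B ns K (d :: l))) := frc_eq _ _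
      rw [e, testBit_land, Bool.and_eq_true, Net.testBit_pull (net_ok hok c)] at hp
      rw [walk_cons, ih hp.2, h c p hp.1, wval_cons (c := c), mul_smul]

theorem Snd.okP (hok : netsOK B ns = true) {τ : ℕ → G ⧸ H} {K c : ℕ} (h : Snd γ H B ns τ K) {l : List ℕ}
    {p : ℕ} (hp : (okP B ns K c l).testBit p = true) :
    τ (walk ns (c :: l) p) = wval γ l • τ ((net ns c).app p) := by
  cases l with
  | nil => simp
  | cons d l =>
    have e : CGT.okP B ns K c (d :: l) = (net ns c).pull (CGT.okW B ns K (d :: l)) := rfl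
    rw [e, Net.testBit_pull (net_ok hok c)] at hp
    rw [walk_cons]; exact h.okW hok hp

theorem Snd.bothK (hok : netsOK B ns = true) {τ : ℕ → G ⧸ H} {K c : ℕ} (h : Snd γ H B ns τ K)
    {u w : List ℕ} (hG : wval γ (c :: u) = wval γ w) (hP : ∀ p, walk ns (c :: u) p = walk ns w p) :
    Snd γ H B ns τ (bothK B ns K c u w) := by
  cases w with
  | nil => exact h
  | cons d v =>
    have e : CGT.bothK B ns K c u (d :: v) =
        CGT.addK B (CGT.addK B K c (Nat.land (Nat.land (CGT.okP B ns K c u) (CGT.okP B ns K d v)) (dig K B d)))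
          d (Nat.land (Nat.land (CGT.okP B ns K c u) (CGT.okP B ns K d v)) (dig K B c)) := rfl
    rw [e]
    simp only [wval_cons] at hG
    refine (h.addK fun p _ hp => ?_).addK fun p _ hp => ?_
    · simp only [testBit_land, Bool.and_eq_true] at hp
      have h1 := h.okP hok hp.1.1
      have h2 := h.okP hok hp.1.2
      rw [hP, h2, h d p hp.2, ← mul_smul, ← hG, mul_smul] at h1
      exact (MulAction.injective _ h1).symm
    · simp only [testBit_land, Bool.and_eq_true] at hp
      have h1 := h.okP hok hp.1.1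
      have h2 := h.okP hok hp.1.2
      rw [← hP, h1, h c p hp.2, ← mul_smul, hG, mul_smul] at h2
      exact (MulAction.injective _ h2).symm

theorem walk_reverse_map (hP : ∀ c p, (net ns (iv c)).app ((net ns c).app p) = p) (l : List ℕ) (p : ℕ) :
    walk ns (l.map iv).reverse (walk ns l p) = p := by
  induction l generalizing p with
  | nil => rfl
  | cons c l ih => simp [walk_append, ih, hP]

/-- invariant of the local phase. -/
def LocInv (γ : ℕ → G) (H : Subgroup G) (B : ℕ) (τ : ℕ → G ⧸ H) (FT k : ℕ) (τ' : ℕ → G ⧸ H) : Prop :=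
  (∀ p < B, τ' p = τ p) ∧ ∀ j < k, dig (dig FT 64 j) 24 0 < B + k ∧ dig (dig FT 64 j) 24 1 < B + k ∧
    τ' (dig (dig FT 64 j) 24 1) = γ (Nat.shiftRight (dig FT 64 j) 48) • τ' (dig (dig FT 64 j) 24 0)

theorem pathRun_sound (hy : TCHyp γ H B ns iv RT LT P0 HM) {τ τ' : ℕ → G ⧸ H} {K FT k a e : ℕ}
    (h : Snd γ H B ns τ K) (hI : LocInv γ H B τ FT k τ') {cnt x i z : ℕ}
    (hc : pathRun B ns iv RT K FT k a e cnt x i z = true) :
    ∃ m, i + m = e ∧ τ' a = wval γ (seg RT m i) • τ' x := by
  induction cnt generalizing x i z with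
  | zero =>
    have hc' : band (Nat.beq x a) (Nat.beq i e) = true := hc
    simp only [band_eq_true, beq_iff] at hc'
    exact ⟨0, hc'.2, by simp [hc'.1]⟩
  | succ n ih =>
    have e0 : pathRun B ns iv RT K FT k a e (n + 1) x i z =
      pathStep B ns iv RT K FT k (pathRun B ns iv RT K FT k a e n) x i z := rfl
    rw [e0] at hc
    generalize pathRun B ns iv RT K FT k a e n = f at hc ih
    unfold pathStep at hc
    simp only at hc
    generalize Nat.land z 65535 = code at hc
    cases code with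
    | zero =>
      simp only [Nat.rec_zero, nrm_eq, band_eq_true, blt_iff, tb_eq] at hc
      obtain ⟨h1, h2, h3⟩ := hc
      obtain ⟨m, hm, hm'⟩ := ih h3
      refine ⟨m + 1, by simp only [Nat.succ_eq_add_one] at hm; omega, ?_⟩
      rw [seg_succ, wval_cons, mul_smul, hm', hI.1 _ (Net.app_lt (net_ok hy.ok _) h1), h _ _ h2, hI.1 _ h1]
    | succ y =>
      simp only [band_eq_true, blt_iff, cnd_eq_ite, beq_iff] at hc
      obtain ⟨h1, h2⟩ := hc
      obtain ⟨-, -, h3⟩ := hI.2 _ h1
      split_ifs at h2 with h4 h5 h5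
      · simp only [band_eq_true, beq_iff] at h2
        obtain ⟨m, hm, hm'⟩ := ih h2.2
        refine ⟨m, hm, ?_⟩
        rw [hm', h3, h5, hy.eps, one_smul, h2.1]
      · simp only [band_eq_true, beq_iff] at h2
        obtain ⟨m, hm, hm'⟩ := ih h2.2.2
        refine ⟨m + 1, by simp only [Nat.succ_eq_add_one] at hm; omega, ?_⟩
        rw [seg_succ, wval_cons, mul_smul, hm', h3, ← h2.2.1, h2.1]
      · simp only [band_eq_true, beq_iff] at h2
        obtain ⟨m, hm, hm'⟩ := ih h2.2
        refine ⟨m, hm, ?_⟩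
        rw [hm', h2.1, h3, h5, hy.eps, one_smul]
      · simp only [band_eq_true, beq_iff] at h2
        obtain ⟨m, hm, hm'⟩ := ih h2.2.2
        refine ⟨m + 1, by simp only [Nat.succ_eq_add_one] at hm; omega, ?_⟩
        rw [seg_succ, wval_cons, mul_smul, hm', ← h2.2.1, hy.ivG, h2.1, h3, inv_smul_smul]

theorem chkFact_sound (hy : TCHyp γ H B ns iv RT LT P0 HM) {τ τ' : ℕ → G ⧸ H} {K FT k z : ℕ}
    (h : Snd γ H B ns τ K) (hI : LocInv γ H B τ FT k τ')
    (hc : chkFact B ns iv RT LT K FT k z = true) : ∃ τ'', LocInv γ H B τ FT (k + 1) τ'' := by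
  unfold chkFact at hc
  simp only at hc
  generalize Nat.land z 65535 = code at hc
  cases code with
  | zero =>
    simp only [Nat.rec_zero, band_eq_true, blt_iff, beq_iff, Nat.add_eq] at hc
    obtain ⟨h1, h2⟩ := hc
    refine ⟨Function.update τ' (B + k) (γ (Nat.shiftRight (dig FT 64 k) 48) • τ' (dig (dig FT 64 k) 24 0)),
      fun p hp => ?_, fun j hj => ?_⟩
    · rw [Function.update_of_ne (by omega), hI.1 p hp]
    · rcases Nat.lt_succ_iff_lt_or_eq.1 hj with h3 | rfl
      · obtain ⟨h4, h5, h6⟩ := hI.2 j h3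
        refine ⟨by omega, by omega, ?_⟩
        rw [Function.update_of_ne (by omega), Function.update_of_ne (by omega), h6]
      · refine ⟨by omega, by omega, ?_⟩
        rw [h2, Function.update_self, Function.update_of_ne (by omega)]
  | succ s =>
    simp only [band_eq_true, blt_iff, beq_iff, Nat.add_eq, cnd_eq_ite] at hc
    obtain ⟨h1, h2, h3⟩ := hc
    refine ⟨τ', hI.1, fun j hj => ?_⟩
    rcases Nat.lt_succ_iff_lt_or_eq.1 hj with h4 | rfl
    · obtain ⟨h4, h5, h6⟩ := hI.2 j h4
      exact ⟨by omega, by omega, h6⟩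
    · refine ⟨by omega, by omega, ?_⟩
      have hs := hy.segG s
      split_ifs at h3 with h5
      · obtain ⟨m, hm, hm'⟩ := pathRun_sound hy h hI h3
        obtain rfl : m = dig LT 16 s := by omega
        rw [h5, hy.eps, one_smul, hm', hs, one_smul]
      · simp only [band_eq_true, beq_iff] at h3
        obtain ⟨m, hm, hm'⟩ := pathRun_sound hy h hI h3.2
        have e : dig LT 16 s = m + 1 := by simp only [Nat.succ_eq_add_one] at hm; omega
        rw [e, seg_succ, wval_cons, ← h3.1] at hs
        rw [hm', ← mul_smul, mul_eq_one_comm.1 hs, one_smul]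

theorem addGoals_sound (hy : TCHyp γ H B ns iv RT LT P0 HM) {τ τ' : ℕ → G ⧸ H} {FT k : ℕ}
    (hI : LocInv γ H B τ FT k τ') (goals : List ℕ) {K : ℕ} (h : Snd γ H B ns τ K) :
    Snd γ H B ns τ (addGoals B ns FT k goals K) := by
  induction goals generalizing K with
  | nil => exact h
  | cons g l ih =>
    apply ih
    simp only [cnd_eq_ite, band_eq_true, blt_iff, beq_iff]
    split_ifs with h1
    · refine h.addK fun p hp hp' => ?_
      rw [testBit_sing] at hp'
      obtain rfl := of_decide_eq_true hp'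
      obtain ⟨-, -, h2⟩ := hI.2 g h1.1
      rw [← h1.2.2, hI.1 _ (Net.app_lt (net_ok hy.ok _) hp), hI.1 _ hp] at h2
      exact h2
    · exact h

theorem locK_sound (hy : TCHyp γ H B ns iv RT LT P0 HM) {τ : ℕ → G ⧸ H} {K FT : ℕ}
    (h : Snd γ H B ns τ K) (goals J : List ℕ) {k : ℕ} {τ' : ℕ → G ⧸ H} (hI : LocInv γ H B τ FT k τ') :
    Snd γ H B ns τ (locK B ns iv RT LT K FT goals J k) := by
  induction J generalizing k τ' with
  | nil => exact addGoals_sound hy hI goals h
  | cons z J ih =>
    have e : locK B ns iv RT LT K FT goals (z :: J) k =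
        cnd (chkFact B ns iv RT LT K FT k z) (nrm (Nat.succ k) (locK B ns iv RT LT K FT goals J)) K := rfl
    rw [e, cnd_eq_ite, nrm_eq]
    split_ifs with h1
    · obtain ⟨τ'', hI'⟩ := chkFact_sound hy h hI h1
      exact ih hI'
    · exact h

theorem stepK_sound (hy : TCHyp γ H B ns iv RT LT P0 HM) {τ : ℕ → G ⧸ H} (h0 : τ 0 = ((1 : G) : G ⧸ H))
    {K : ℕ} (h : Snd γ H B ns τ K) (st : Step) : Snd γ H B ns τ (stepK B ns iv RT LT P0 HM st K) := by
  cases st with
  | both s i =>
    show Snd γ H B ns τ (cnd _ _ _)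
    simp only [cnd_eq_ite, band_eq_true, blt_iff, Nat.sub_eq, Nat.add_eq, Nat.succ_eq_add_one]
    split_ifs with h1
    · have e : seg RT (dig LT 16 s) s = (dig RT 8 s :: seg RT i (s + 1)) ++
          seg RT (dig LT 16 s - (i + 1)) (s + 1 + i) := by
        conv_lhs => rw [show dig LT 16 s = (i + 1) + (dig LT 16 s - (i + 1)) by omega]
        rw [seg_add, seg_succ, show s + (i + 1) = s + 1 + i by omega]
      have hG := hy.segG s
      have hP := hy.segP s h1.1
      rw [e] at hG hP
      rw [revMap_eq, List.append_nil]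
      apply h.bothK hy.ok
      · rw [wval_reverse_map γ hy.ivG, wval_append] at *
        exact eq_inv_of_mul_eq_one_right hG
      · intro p
        conv_rhs => rw [← hP p, walk_append, walk_reverse_map hy.ivP]
    · exact h
  | sym c =>
    refine h.addK fun p _ hp => ?_
    rw [Net.testBit_pull (net_ok hy.ok _)] at hp
    have h1 := h c _ hp
    have h2 : (net ns c).app ((net ns (iv c)).app p) = p :=
      Net.app_injective (net_ok hy.ok (iv c)) (hy.ivP c _)
    rw [h2] at h1
    rw [h1, hy.ivG, inv_smul_smul]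
  | base c =>
    show Snd γ H B ns τ (cnd _ _ _)
    simp only [cnd_eq_ite, band_eq_true, tb_eq, beq_iff]
    split_ifs with h1
    · refine h.addK fun p _ hp => ?_
      have hp0 : p = 0 := by
        have : (1 : ℕ) = sing 0 := rfl
        rw [this, testBit_sing] at hp; exact of_decide_eq_true hp
      subst hp0
      rw [h1.2, h0, MulAction.Quotient.smul_coe, QuotientGroup.eq]
      simpa using hy.base c h1.1
    · exact h
  | loc FT goals J => exact locK_sound hy h goals J (k := 0) (τ' := τ) ⟨fun _ _ => rfl, fun _ hj => by omega⟩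

theorem runK_sound (hy : TCHyp γ H B ns iv RT LT P0 HM) {τ : ℕ → G ⧸ H} (h0 : τ 0 = ((1 : G) : G ⧸ H))
    (steps : List Step) {K : ℕ} (h : Snd γ H B ns τ K) :
    Snd γ H B ns τ (runK B ns iv RT LT P0 HM steps K) := by
  induction steps generalizing K with
  | nil => exact h
  | cons st l ih =>
    have e : runK B ns iv RT LT P0 HM (st :: l) K =
        runK B ns iv RT LT P0 HM l (stepK B ns iv RT LT P0 HM st K) := frc_eq _ _
    rw [e]; exact ih (stepK_sound hy h0 h st)

theorem treeK_sound (hok : netsOK B ns = true) (steps : List ℕ) {V K : ℕ} {τ : ℕ → G ⧸ H}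
    (h0 : τ 0 = ((1 : G) : G ⧸ H)) (hV : V.testBit 0 = true) (h : Snd γ H B ns τ K)
    (hK : ∀ c p, (dig K B c).testBit p = true →
      V.testBit p = true ∧ V.testBit ((net ns c).app p) = true) :
    ∃ τ' : ℕ → G ⧸ H, τ' 0 = ((1 : G) : G ⧸ H) ∧ Snd γ H B ns τ' (treeK B ns steps V K) := by
  induction steps generalizing V K τ with
  | nil => exact ⟨τ, h0, h⟩
  | cons c l ih =>
    have e : treeK B ns (c :: l) V K = treeK B ns l (Nat.lor V ((net ns c).pull V))
        (addK B K c (Nat.xor (Nat.lor V ((net ns c).pull V)) V)) := (frc_eq _ _).trans (frc_eq _ _)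
    rw [e]
    have hnew : ∀ p, (Nat.xor (Nat.lor V ((net ns c).pull V)) V).testBit p = true →
        V.testBit p = false ∧ V.testBit ((net ns c).app p) = true := by
      intro p hp
      rw [testBit_xor', testBit_lor, Net.testBit_pull (net_ok hok c)] at hp
      revert hp
      cases V.testBit p <;> cases V.testBit ((net ns c).app p) <;> simp
    refine ih (τ := fun q => if V.testBit q = true then τ q else (γ c)⁻¹ • τ ((net ns c).app q))
      (by simp only [hV, if_true, h0]) (by rw [testBit_lor, hV]; rfl) ?_ ?_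
    · intro c' p hp
      rcases testBit_dig_addK hp with h1 | ⟨rfl, -, h2⟩
      · obtain ⟨h3, h4⟩ := hK c' p h1
        simp only [h3, h4, if_true]; exact h c' p h1
      · obtain ⟨h3, h4⟩ := hnew p h2
        simp [h3, h4]
    · intro c' p hp
      simp only [testBit_lor, Net.testBit_pull (net_ok hok c), Bool.or_eq_true]
      rcases testBit_dig_addK hp with h1 | ⟨rfl, -, h2⟩
      · obtain ⟨h3, h4⟩ := hK c' p h1
        exact ⟨Or.inl h3, Or.inl h4⟩
      · obtain ⟨h3, h4⟩ := hnew p h2
        exact ⟨Or.inr h4, Or.inl h4⟩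

/-- the state `K` is sound for some `τ`. -/
def Good (γ : ℕ → G) (H : Subgroup G) (B : ℕ) (ns : List Net) (K : ℕ) : Prop :=
  ∃ τ : ℕ → G ⧸ H, τ 0 = ((1 : G) : G ⧸ H) ∧ Snd γ H B ns τ K

theorem good_tree (hok : netsOK B ns = true) (steps : List ℕ) :
    Good γ H B ns (treeK B ns steps 1 0) := by
  refine treeK_sound hok steps (τ := fun _ => ((1 : G) : G ⧸ H)) rfl rfl ?_ ?_ <;>
  · intro c p hp
    simp [testBit_dig] at hp

theorem Good.run (hy : TCHyp γ H B ns iv RT LT P0 HM) {K K' : ℕ} (h : Good γ H B ns K) {steps : List Step}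
    (hs : sub K' (runK B ns iv RT LT P0 HM steps K) = true) : Good γ H B ns K' := by
  obtain ⟨τ, h0, h⟩ := h
  exact ⟨τ, h0, (runK_sound hy h0 steps h).of_sub hs⟩

/-- first chunk: tree followed by steps. -/
theorem good_start (hy : TCHyp γ H B ns iv RT LT P0 HM) {tree : List ℕ} {steps : List Step} {K' : ℕ}
    (hs : sub K' (runK B ns iv RT LT P0 HM steps (treeK B ns tree 1 0)) = true) : Good γ H B ns K' :=
  (good_tree hy.ok tree).run hy hs

end sound

/-- the complete state: all edges `(p, c)` with `p < N`, `c < nc`. -/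
def fullK (B N nc : ℕ) : ℕ :=
  @Nat.rec (fun _ => ℕ) 0 (fun c ih => Nat.lor ih (Nat.shiftLeft (ones N) (Nat.mul B c))) nc

theorem testBit_fullK {B N nc c p : ℕ} (hN : N ≤ B) (hc : c < nc) (hp : p < N) :
    (dig (fullK B N nc) B c).testBit p = true := by
  rw [testBit_dig, Bool.and_eq_true, decide_eq_true_eq]
  refine ⟨?_, by omega⟩
  induction nc with
  | zero => omega
  | succ n ih =>
    have e : fullK B N (n + 1) = Nat.lor (fullK B N n) (Nat.shiftLeft (ones N) (Nat.mul B n)) := rfl
    rw [e, testBit_lor, Bool.or_eq_true]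
    rcases Nat.lt_succ_iff_lt_or_eq.1 hc with h | rfl
    · exact Or.inl (ih h)
    · right; simp [testBit_ones, hp]

/-- `{0, …, N-1}` is a non-empty subset of `{0, …, B-1}` invariant under the first `nc` columns. -/
def invOK (B N nc : ℕ) (ns : List Net) : Bool :=
  band (Nat.ble 1 N) (band (Nat.ble N B) (allLt nc (fun c => Nat.beq ((net ns c).pull (ones N)) (ones N))))

/-- the subgroup generated by the first `nc` columns. -/
def genLt {G : Type*} [Group G] (γ : ℕ → G) (nc : ℕ) : Subgroup G := Subgroup.closure (γ '' Set.Iio nc)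

theorem invOK_lt {B N nc : ℕ} {ns : List Net} (hok : netsOK B ns = true) (hi : invOK B N nc ns = true)
    {c : ℕ} (hc : c < nc) (p : ℕ) : (net ns c).app p < N ↔ p < N := by
  simp only [invOK, band_eq_true, ble_iff] at hi
  have h1 := beq_iff.1 (allLt_spec hi.2.2 c hc)
  have h2 := congrArg (fun x => x.testBit p) h1
  simpa [Net.testBit_pull (net_ok hok c), testBit_ones] using h2

section final
variable {G : Type*} [Group G] {γ : ℕ → G} {H : Subgroup G} {B N nc : ℕ} {ns : List Net}

theorem Good.exists_full (h : Good γ H B ns (fullK B N nc)) (hi : invOK B N nc ns = true) :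
    ∃ τ : ℕ → G ⧸ H, τ 0 = ((1 : G) : G ⧸ H) ∧
      ∀ c < nc, ∀ p < N, τ ((net ns c).app p) = γ c • τ p := by
  obtain ⟨τ, h0, h⟩ := h
  simp only [invOK, band_eq_true, ble_iff] at hi
  exact ⟨τ, h0, fun c hc p hp => h c p (testBit_fullK hi.2.1 hc hp)⟩

/-- a word whose walk from `0` is closed lies in `H`. -/
theorem Good.wval_mem (hok : netsOK B ns = true) (h : Good γ H B ns (fullK B N nc))
    (hi : invOK B N nc ns = true) {l : List ℕ} (hl : ∀ c ∈ l, c < nc) (hw : walk ns l 0 = 0) :
    wval γ l ∈ H := by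
  obtain ⟨τ, h0, h⟩ := h.exists_full hi
  have key : ∀ (l : List ℕ), (∀ c ∈ l, c < nc) → ∀ p < N, τ (walk ns l p) = wval γ l • τ p := by
    intro l hl
    induction l with
    | nil => simp
    | cons c l ih =>
      intro p hp
      have hc := hl c List.mem_cons_self
      rw [walk_cons, ih (fun x hx => hl x (List.mem_cons_of_mem _ hx)) _ ((invOK_lt hok hi hc p).2 hp),
        h c hc p hp, wval_cons, mul_smul]
  have hN : 0 < N := by simp only [invOK, band_eq_true, ble_iff] at hi; omega
  have h1 := key l hl 0 hN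
  rw [hw, h0, MulAction.Quotient.smul_coe, QuotientGroup.eq] at h1
  simpa using h1

/-- the index bound. -/
theorem Good.relIndex_le (hok : netsOK B ns = true) (h : Good γ H B ns (fullK B N nc))
    (hi : invOK B N nc ns = true) :
    H.relIndex (genLt γ nc) ≠ 0 ∧ H.relIndex (genLt γ nc) ≤ N := by
  obtain ⟨τ, h0, h⟩ := h.exists_full hi
  have hN : 0 < N := by simp only [invOK, band_eq_true, ble_iff] at hi; omega
  have key : ∀ g ∈ genLt γ nc, ∀ p < N, ∃ q < N, τ q = g • τ p := by
    intro g hg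
    induction hg using Subgroup.closure_induction'' with
    | mem x hx =>
      obtain ⟨c, hc, rfl⟩ := hx
      exact fun p hp => ⟨_, (invOK_lt hok hi hc p).2 hp, h c hc p hp⟩
    | inv_mem x hx =>
      obtain ⟨c, hc, rfl⟩ := hx
      intro p hp
      obtain ⟨q, rfl⟩ := (Net.app_bijective (net_ok hok c)).2 p
      have hq := (invOK_lt hok hi hc q).1 hp
      exact ⟨q, hq, by rw [h c hc q hq, inv_smul_smul]⟩
    | one => exact fun p hp => ⟨p, hp, by simp⟩
    | mul x y _ _ ihx ihy =>
      intro p hp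
      obtain ⟨q, hq, e⟩ := ihy p hp
      obtain ⟨r, hr, e'⟩ := ihx q hq
      exact ⟨r, hr, by rw [e', e, mul_smul]⟩
  have key2 : ∀ x : genLt γ nc ⧸ H.subgroupOf (genLt γ nc),
      ∃ q : Fin N, τ q = ((x.out : genLt γ nc) : G) := by
    intro x
    obtain ⟨q, hq, e⟩ := key _ (x.out : genLt γ nc).2 0 hN
    refine ⟨⟨q, hq⟩, ?_⟩
    rw [e, h0, MulAction.Quotient.smul_coe]; simp
  choose f hf using key2
  have hinj : Function.Injective f := by
    intro x y hxy
    have h1 : (((x.out : genLt γ nc) : G) : G ⧸ H) = ((y.out : genLt γ nc) : G) := by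
      rw [← hf x, ← hf y, hxy]
    rw [QuotientGroup.eq] at h1
    rw [← QuotientGroup.out_eq' x, ← QuotientGroup.out_eq' y, QuotientGroup.eq]
    exact h1
  have hfin : Finite (genLt γ nc ⧸ H.subgroupOf (genLt γ nc)) := Finite.of_injective f hinj
  refine ⟨Subgroup.index_ne_zero_of_finite, ?_⟩
  have := Nat.card_le_card_of_injective f hinj
  rw [Nat.card_fin] at this
  exact this

/-- if the networks come from a representation of `G`, the stabiliser of `0` lies in `H`. -/
theorem Good.stab_le (ρ : Rep G) (h : Good γ H ρ.B ρ.ns (fullK ρ.B N nc))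
    (hi : invOK ρ.B N nc ρ.ns = true) (hγ : ∀ c < nc, γ c = ρ.γ c) :
    genLt γ nc ⊓ ρ.stab 0 ≤ H := by
  obtain ⟨τ, h0, h⟩ := h.exists_full hi
  have hN : 0 < N := by simp only [invOK, band_eq_true, ble_iff] at hi; omega
  have hφ : ∀ c < nc, ∀ p, ρ.φ (γ c) p = (net ρ.ns c).app p := by
    intro c hc p
    rw [hγ c hc, ρ.compat, pm, Net.perm_apply (net_ok ρ.ok c)]
  have key : ∀ g ∈ genLt γ nc, ∀ p < N, ρ.φ g p < N ∧ τ (ρ.φ g p) = g • τ p := by
    intro g hg
    induction hg using Subgroup.closure_induction'' with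
    | mem x hx =>
      obtain ⟨c, hc, rfl⟩ := hx
      intro p hp
      rw [hφ c hc]
      exact ⟨(invOK_lt ρ.ok hi hc p).2 hp, h c hc p hp⟩
    | inv_mem x hx =>
      obtain ⟨c, hc, rfl⟩ := hx
      intro p hp
      obtain ⟨q, rfl⟩ := (Net.app_bijective (net_ok ρ.ok c)).2 p
      have hq := (invOK_lt ρ.ok hi hc q).1 hp
      have e : ρ.φ (γ c)⁻¹ ((net ρ.ns c).app q) = q := by
        rw [← hφ c hc]; simp
      rw [e]
      exact ⟨hq, by rw [h c hc q hq, inv_smul_smul]⟩
    | one => exact fun p hp => by simp [hp]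
    | mul x y _ _ ihx ihy =>
      intro p hp
      obtain ⟨hq, e⟩ := ihy p hp
      obtain ⟨hr, e'⟩ := ihx _ hq
      rw [map_mul, Equiv.Perm.mul_apply]
      exact ⟨hr, by rw [e', e, mul_smul]⟩
  rintro g ⟨hg, hg0⟩
  have h1 := (key g hg 0 hN).2
  rw [(ρ.mem_stab).1 hg0, h0, MulAction.Quotient.smul_coe, QuotientGroup.eq] at h1
  simpa using h1

end final

/-- order bound from an index bound. -/
theorem card_le_of_relIndex {G : Type*} [Group G] {H K : Subgroup G} {N m : ℕ}
    (h : H.relIndex K ≠ 0 ∧ H.relIndex K ≤ N) (hH : Finite H ∧ Nat.card H ≤ m) :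
    Finite K ∧ Nat.card K ≤ N * m := by
  obtain ⟨hfin, hm⟩ := hH
  have h1 : Finite ↥(H.subgroupOf K) :=
    Finite.of_injective (fun x : H.subgroupOf K => (⟨(x.1 : G), x.2⟩ : H))
      (fun x y e => Subtype.ext (Subtype.ext (congrArg (fun z : H => (z : G)) e)))
  have h2 : Nat.card ↥(H.subgroupOf K) ≤ Nat.card H :=
    Nat.card_le_card_of_injective (fun x : H.subgroupOf K => (⟨(x.1 : G), x.2⟩ : H))
      (fun x y e => Subtype.ext (Subtype.ext (congrArg (fun z : H => (z : G)) e)))
  have h3 := (H.subgroupOf K).card_mul_index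
  have h4 : Nat.card K ≠ 0 := by
    rw [← h3]; exact Nat.mul_ne_zero Nat.card_pos.ne' h.1
  refine ⟨Nat.finite_of_card_ne_zero h4, ?_⟩
  rw [← h3, mul_comm]
  exact Nat.mul_le_mul h.2 (h2.trans hm)

end

end CL.CGT
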