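import Cfsg.Agent.CGT.Net

/-!
# Words acting through permutation networks: relator checks, orbits, stabiliser chains

Letters ("columns") are naturals.  A word `[c₁, …, c_k]` is read in *walk order*: `c₁` acts first, so its value in a
group is `γ c_k * ⋯ * γ c₁` (`wval`), acting on the left.
-/

namespace CL.CGT

noncomputable section

/-- evaluate `x` before continuing with `y` (keeps kernel recursion shallow). -/
def frc {α : Type} (x : ℕ) (y : α) : α := @Bool.rec (fun _ => α) y y (Nat.beq x 0)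

@[simp] theorem frc_eq {α : Type} (x : ℕ) (y : α) : frc x y = y := by
  unfold frc; cases Nat.beq x 0 <;> rfl

/-- the network of column `c` (trivial outside the list). -/
def net (ns : List Net) (c : ℕ) : Net := getD' ns Net.nil c

/-- all networks are valid below `B`. -/
def netsOK (B : ℕ) (ns : List Net) : Bool := allL ns (fun n => n.ok B)

theorem net_ok {B : ℕ} {ns : List Net} (h : netsOK B ns = true) (c : ℕ) : (net ns c).ok B = true := by
  unfold net
  rw [getD'_eq, List.getD_eq_getElem?_getD]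
  cases e : ns[c]? with
  | none => rfl
  | some n => exact allL_spec h n (List.mem_of_getElem? e)

/-- walk along a word. -/
def walk (ns : List Net) (l : List ℕ) : ℕ → ℕ :=
  @List.rec ℕ (fun _ => ℕ → ℕ) (fun p => p)
    (fun c _ ih p => frc ((net ns c).app p) (ih ((net ns c).app p))) l

@[simp] theorem walk_nil (ns : List Net) (p : ℕ) : walk ns [] p = p := rfl
@[simp] theorem walk_cons (ns : List Net) (c : ℕ) (l : List ℕ) (p : ℕ) :
    walk ns (c :: l) p = walk ns l ((net ns c).app p) := frc_eq _ _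

theorem walk_append (ns : List Net) (l l' : List ℕ) (p : ℕ) :
    walk ns (l ++ l') p = walk ns l' (walk ns l p) := by
  induction l generalizing p with
  | nil => rfl
  | cons c l ih => simp [ih]

theorem walk_lt {B : ℕ} {ns : List Net} (h : netsOK B ns = true) (l : List ℕ) {p : ℕ} (hp : p < B) :
    walk ns l p < B := by
  induction l generalizing p with
  | nil => exact hp
  | cons c l ih => rw [walk_cons]; exact ih (Net.app_lt (net_ok h c) hp)

theorem walk_of_le {B : ℕ} {ns : List Net} (h : netsOK B ns = true) (l : List ℕ) {p : ℕ} (hp : B ≤ p) :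
    walk ns l p = p := by
  induction l with
  | nil => rfl
  | cons c l ih => rw [walk_cons, Net.app_of_le (net_ok h c) hp, ih]

/-- pull a bit set back along a word. -/
def pullW (ns : List Net) (l : List ℕ) (f : ℕ) : ℕ :=
  @List.rec ℕ (fun _ => ℕ) f (fun c _ ih => frc ih ((net ns c).pull ih)) l

@[simp] theorem pullW_nil (ns : List Net) (f : ℕ) : pullW ns [] f = f := rfl
@[simp] theorem pullW_cons (ns : List Net) (c : ℕ) (l : List ℕ) (f : ℕ) :
    pullW ns (c :: l) f = (net ns c).pull (pullW ns l f) := frc_eq _ _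

theorem testBit_pullW {B : ℕ} {ns : List Net} (h : netsOK B ns = true) (l : List ℕ) (f p : ℕ) :
    (pullW ns l f).testBit p = f.testBit (walk ns l p) := by
  induction l generalizing p with
  | nil => rfl
  | cons c l ih => rw [pullW_cons, Net.testBit_pull (net_ok h c), ih, walk_cons]

/-- the value of a word (walk order). -/
def wval {G : Type*} [Group G] (γ : ℕ → G) : List ℕ → G
  | [] => 1
  | c :: l => wval γ l * γ c

section wval
variable {G : Type*} [Group G] (γ : ℕ → G)

@[simp] theorem wval_nil : wval γ [] = 1 := rfl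
@[simp] theorem wval_cons (c : ℕ) (l : List ℕ) : wval γ (c :: l) = wval γ l * γ c := rfl

theorem wval_append (l l' : List ℕ) : wval γ (l ++ l') = wval γ l' * wval γ l := by
  induction l with
  | nil => simp
  | cons c l ih => simp [ih, mul_assoc]

theorem wval_map {G' : Type*} [Group G'] (f : G →* G') (l : List ℕ) :
    f (wval γ l) = wval (fun c => f (γ c)) l := by
  induction l with
  | nil => simp
  | cons c l ih => simp [ih]

theorem wval_mem {K : Subgroup G} {l : List ℕ} (h : ∀ c ∈ l, γ c ∈ K) : wval γ l ∈ K := by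
  induction l with
  | nil => exact K.one_mem
  | cons c l ih =>
    exact K.mul_mem (ih fun x hx => h x (List.mem_cons_of_mem _ hx)) (h c List.mem_cons_self)

theorem wval_rotate {l : List ℕ} (h : wval γ l = 1) (n : ℕ) : wval γ (l.drop n ++ l.take n) = 1 := by
  have h1 : wval γ (l.drop n) * wval γ (l.take n) = 1 := by
    rw [← wval_append, List.take_append_drop, h]
  rw [wval_append]; exact mul_eq_one_comm.1 h1

theorem wval_reverse_map {iv : ℕ → ℕ} (hiv : ∀ c, γ (iv c) = (γ c)⁻¹) (l : List ℕ) :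
    wval γ (l.map iv).reverse = (wval γ l)⁻¹ := by
  induction l with
  | nil => simp
  | cons c l ih => simp [wval_append, ih, hiv]

theorem wval_congr {γ' : ℕ → G} {l : List ℕ} (h : ∀ c ∈ l, γ c = γ' c) : wval γ l = wval γ' l := by
  induction l with
  | nil => rfl
  | cons c l ih =>
    rw [wval_cons, wval_cons, h c List.mem_cons_self, ih fun x hx => h x (List.mem_cons_of_mem _ hx)]

end wval

/-- the permutations of the columns. -/
def pm (ns : List Net) (c : ℕ) : Equiv.Perm ℕ := (net ns c).perm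

theorem wval_pm_apply {B : ℕ} {ns : List Net} (h : netsOK B ns = true) (l : List ℕ) (p : ℕ) :
    wval (pm ns) l p = walk ns l p := by
  induction l generalizing p with
  | nil => rfl
  | cons c l ih =>
    rw [wval_cons, Equiv.Perm.mul_apply, ih, walk_cons, pm, Net.perm_apply (net_ok h c)]

/-! ### equality of words as permutations -/

/-- label plane truncated to `B`. -/
def planeB (B w j : ℕ) : ℕ := Nat.land (plane w j) (ones B)

/-- the pairs of words `(u, v)` act in the same way on the label plane `j`. -/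
def eqPlane (ns : List Net) (B w : ℕ) (E : List (List ℕ × List ℕ)) (j : ℕ) : Bool :=
  let P := planeB B w j
  allL E (fun e => Nat.beq (pullW ns e.1 P) (pullW ns e.2 P))

theorem walk_eq_of_eqPlane {B w : ℕ} {ns : List Net} (h : netsOK B ns = true) (hB : B ≤ 2 ^ w)
    {E : List (List ℕ × List ℕ)} (hE : ∀ j < w, eqPlane ns B w E j = true) :
    ∀ e ∈ E, ∀ p, walk ns e.1 p = walk ns e.2 p := by
  intro e he p
  rcases le_or_gt B p with hp | hp
  · rw [walk_of_le h _ hp, walk_of_le h _ hp]
  have h1 := walk_lt h e.1 hp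
  have h2 := walk_lt h e.2 hp
  apply Nat.eq_of_testBit_eq
  intro j
  rcases lt_or_ge j w with hj | hj
  · have h3 := beq_iff.1 (allL_spec (hE j hj) e he)
    have h4 := congrArg (fun x => x.testBit p) h3
    simp only [testBit_pullW h, planeB, testBit_land, testBit_plane, testBit_ones] at h4
    simpa [h1, h2, lt_of_lt_of_le h1 hB, lt_of_lt_of_le h2 hB] using h4
  · have h5 : 2 ^ w ≤ 2 ^ j := Nat.pow_le_pow_right (by norm_num) hj
    rw [Nat.testBit_lt_two_pow (by omega), Nat.testBit_lt_two_pow (by omega)]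

theorem wval_pm_eq_of_eqPlane {B w : ℕ} {ns : List Net} (h : netsOK B ns = true) (hB : B ≤ 2 ^ w)
    {E : List (List ℕ × List ℕ)} (hE : ∀ j < w, eqPlane ns B w E j = true) :
    ∀ e ∈ E, wval (pm ns) e.1 = wval (pm ns) e.2 := by
  intro e he
  ext p
  rw [wval_pm_apply h, wval_pm_apply h, walk_eq_of_eqPlane h hB hE e he]

/-- all planes at once (small degree). -/
def eqAll (ns : List Net) (B w : ℕ) (E : List (List ℕ × List ℕ)) : Bool :=
  band (Nat.ble B (Nat.shiftLeft 1 w)) (allLt w (eqPlane ns B w E))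

theorem wval_pm_eq_of_eqAll {B w : ℕ} {ns : List Net} (h : netsOK B ns = true)
    {E : List (List ℕ × List ℕ)} (hE : eqAll ns B w E = true) :
    ∀ e ∈ E, wval (pm ns) e.1 = wval (pm ns) e.2 := by
  simp only [eqAll, band_eq_true, ble_iff] at hE
  exact wval_pm_eq_of_eqPlane h (by rw [← Nat.one_shiftLeft]; exact hE.1) (allLt_spec hE.2)

/-! ### permutation representations -/

/-- A representation of `G` on `ℕ` in which the elements `γ c` act through the networks `ns`. -/
structure Rep (G : Type*) [Group G] where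
  B : ℕ
  ns : List Net
  γ : ℕ → G
  φ : G →* Equiv.Perm ℕ
  ok : netsOK B ns = true
  compat : ∀ c, φ (γ c) = pm ns c

namespace Rep
variable {G : Type*} [Group G] (ρ : Rep G)

theorem φ_wval (l : List ℕ) : ρ.φ (wval ρ.γ l) = wval (pm ρ.ns) l := by
  rw [wval_map]; exact wval_congr _ fun c _ => ρ.compat c

theorem φ_wval_apply (l : List ℕ) (p : ℕ) : ρ.φ (wval ρ.γ l) p = walk ρ.ns l p := by
  rw [φ_wval, wval_pm_apply ρ.ok]

/-- the orbit of `b` under the subgroup `K`. -/
def orb (K : Subgroup G) (b : ℕ) : Set ℕ := {q | ∃ g ∈ K, ρ.φ g b = q}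

/-- the stabiliser of `b`. -/
def stab (b : ℕ) : Subgroup G where
  carrier := {g | ρ.φ g b = b}
  one_mem' := by simp
  mul_mem' := by
    intro x y hx hy
    simp only [Set.mem_ofPred_eq, map_mul, Equiv.Perm.mul_apply] at *
    rw [hy, hx]
  inv_mem' := by
    intro x hx
    simp only [Set.mem_ofPred_eq, map_inv] at *
    rw [Equiv.Perm.inv_eq_iff_eq, hx]

theorem mem_stab {b : ℕ} {g : G} : g ∈ ρ.stab b ↔ ρ.φ g b = b := Iff.rfl

theorem mem_orb_self (K : Subgroup G) (b : ℕ) : b ∈ ρ.orb K b := ⟨1, K.one_mem, by simp⟩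

theorem orb_mono {K M : Subgroup G} (h : K ≤ M) (b : ℕ) : ρ.orb K b ⊆ ρ.orb M b :=
  fun _ ⟨g, hg, e⟩ => ⟨g, h hg, e⟩

theorem apply_mem_orb {K : Subgroup G} {b q : ℕ} (hq : q ∈ ρ.orb K b) {g : G} (hg : g ∈ K) :
    ρ.φ g q ∈ ρ.orb K b := by
  obtain ⟨x, hx, rfl⟩ := hq
  exact ⟨g * x, K.mul_mem hg hx, by simp⟩

theorem mem_orb_of_apply {K : Subgroup G} {b q : ℕ} {g : G} (hg : g ∈ K) (hq : ρ.φ g q ∈ ρ.orb K b) :
    q ∈ ρ.orb K b := by
  have := ρ.apply_mem_orb hq (K.inv_mem hg)
  simpa using this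

theorem orb_eq_of_mem {K : Subgroup G} {b q : ℕ} (hq : q ∈ ρ.orb K b) : ρ.orb K q = ρ.orb K b := by
  ext x
  constructor
  · rintro ⟨g, hg, rfl⟩; exact ρ.apply_mem_orb hq hg
  · intro hx
    obtain ⟨y, hy, rfl⟩ := hq
    obtain ⟨z, hz, rfl⟩ := hx
    exact ⟨z * y⁻¹, K.mul_mem hz (K.inv_mem hy), by simp⟩

/-- orbit-stabiliser. -/
theorem relIndex_stab (K : Subgroup G) (b : ℕ) : (ρ.stab b).relIndex K = (ρ.orb K b).ncard := by
  let _ : MulAction K ℕ := MulAction.compHom ℕ (ρ.φ.comp K.subtype)
  have e1 : (ρ.stab b).subgroupOf K = MulAction.stabilizer K b := by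
    ext g; rfl
  have e2 : ρ.orb K b = MulAction.orbit K b := by
    ext q
    constructor
    · rintro ⟨g, hg, rfl⟩; exact ⟨⟨g, hg⟩, rfl⟩
    · rintro ⟨g, rfl⟩; exact ⟨g.1, g.2, rfl⟩
  rw [Subgroup.relIndex, e1, e2, MulAction.index_stabilizer]

theorem index_stab (b : ℕ) : (ρ.stab b).index = (ρ.orb ⊤ b).ncard := by
  rw [← relIndex_stab, Subgroup.relIndex_top_right]

theorem card_eq_ncard_orb_mul (K : Subgroup G) (b : ℕ) :
    Nat.card K = (ρ.orb K b).ncard * Nat.card ↥(K ⊓ ρ.stab b) := by
  rw [← relIndex_stab, ← Subgroup.inf_relIndex_left, Subgroup.relIndex, mul_comm,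
    ← Subgroup.card_mul_index ((K ⊓ ρ.stab b).subgroupOf K),
    Nat.card_congr (Subgroup.subgroupOfEquivOfLe inf_le_left).toEquiv]

end Rep

/-! ### growing orbits -/

/-- `S ↦ S ∪ w⁻¹ S` for the words `w = gens[i]`, `i` running through `steps`. -/
def grow (ns : List Net) (gens : List (List ℕ)) (steps : List ℕ) : ℕ → ℕ :=
  @List.rec ℕ (fun _ => ℕ → ℕ) (fun S => S)
    (fun i _ ih S => frc S (ih (Nat.lor S (pullW ns (getD' gens [] i) S)))) steps

theorem grow_nil (ns : List Net) (gens : List (List ℕ)) (S : ℕ) : grow ns gens [] S = S := rfl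
theorem grow_cons (ns : List Net) (gens : List (List ℕ)) (i : ℕ) (l : List ℕ) (S : ℕ) :
    grow ns gens (i :: l) S = grow ns gens l (Nat.lor S (pullW ns (getD' gens [] i) S)) := frc_eq _ _

theorem getD'_mem_or {α : Type} (l : List α) (d : α) (i : ℕ) : getD' l d i ∈ l ∨ getD' l d i = d := by
  rw [getD'_eq, List.getD_eq_getElem?_getD]
  cases e : l[i]? with
  | none => exact Or.inr rfl
  | some n => exact Or.inl (List.mem_of_getElem? e)

/-- `S` is invariant under all the words. -/
def closedW (ns : List Net) (gens : List (List ℕ)) (S : ℕ) : Bool :=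
  allL gens (fun w => Nat.beq (pullW ns w S) S)

/-- all the words fix the point `b`. -/
def fixW (ns : List Net) (gens : List (List ℕ)) (b : ℕ) : Bool :=
  allL gens (fun w => Nat.beq (walk ns w b) b)

/-- the subgroup generated by the values of a list of words. -/
def gen {G : Type*} [Group G] (γ : ℕ → G) (gens : List (List ℕ)) : Subgroup G :=
  Subgroup.closure {g | ∃ w ∈ gens, wval γ w = g}

theorem wval_mem_gen {G : Type*} [Group G] (γ : ℕ → G) {gens : List (List ℕ)} {w : List ℕ}
    (hw : w ∈ gens) : wval γ w ∈ gen γ gens := Subgroup.subset_closure ⟨w, hw, rfl⟩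

theorem gen_le {G : Type*} [Group G] {γ : ℕ → G} {gens : List (List ℕ)} {K : Subgroup G} :
    gen γ gens ≤ K ↔ ∀ w ∈ gens, wval γ w ∈ K := by
  unfold gen
  rw [Subgroup.closure_le]
  exact ⟨fun h w hw => h ⟨w, hw, rfl⟩, fun h _ ⟨w, hw, e⟩ => e ▸ h w hw⟩

namespace Rep
variable {G : Type*} [Group G] (ρ : Rep G)

theorem grow_subset {K : Subgroup G} {gens : List (List ℕ)} (hK : gen ρ.γ gens ≤ K) {b : ℕ}
    (steps : List ℕ) {S : ℕ} (hS : bset S ⊆ ρ.orb K b) : bset (grow ρ.ns gens steps S) ⊆ ρ.orb K b := by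
  induction steps generalizing S with
  | nil => exact hS
  | cons i l ih =>
    rw [grow_cons]
    apply ih
    intro p hp
    rw [mem_bset, testBit_lor, Bool.or_eq_true, testBit_pullW ρ.ok] at hp
    rcases hp with hp | hp
    · exact hS hp
    · have hw : wval ρ.γ (getD' gens [] i) ∈ K := by
        rcases getD'_mem_or gens [] i with h | h
        · exact hK (wval_mem_gen _ h)
        · rw [h]; exact K.one_mem
      apply ρ.mem_orb_of_apply hw
      rw [φ_wval_apply]; exact hS hp

theorem bset_sing_subset (K : Subgroup G) (b : ℕ) : bset (sing b) ⊆ ρ.orb K b := by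
  intro p hp
  rw [mem_bset, testBit_sing] at hp
  rw [of_decide_eq_true hp]; exact ρ.mem_orb_self K b

theorem apply_mem_iff_of_closedW {gens : List (List ℕ)} {S : ℕ} (h : closedW ρ.ns gens S = true)
    {g : G} (hg : g ∈ gen ρ.γ gens) (p : ℕ) : ρ.φ g p ∈ bset S ↔ p ∈ bset S := by
  induction hg using Subgroup.closure_induction generalizing p with
  | mem x hx =>
    obtain ⟨w, hw, rfl⟩ := hx
    have h1 := beq_iff.1 (allL_spec h w hw)
    rw [mem_bset, mem_bset, φ_wval_apply, ← testBit_pullW ρ.ok, h1]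
  | one => simp
  | mul x y _ _ ihx ihy => rw [map_mul, Equiv.Perm.mul_apply, ihx, ihy]
  | inv x _ ih => rw [← ih]; simp

theorem orb_subset_of_closedW {gens : List (List ℕ)} {S : ℕ} (h : closedW ρ.ns gens S = true)
    {b : ℕ} (hb : S.testBit b = true) : ρ.orb (gen ρ.γ gens) b ⊆ bset S := by
  rintro q ⟨g, hg, rfl⟩
  exact (ρ.apply_mem_iff_of_closedW h hg b).2 hb

theorem gen_le_stab {gens : List (List ℕ)} {b : ℕ} (h : fixW ρ.ns gens b = true) :
    gen ρ.γ gens ≤ ρ.stab b := by
  rw [gen_le]
  intro w hw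
  rw [mem_stab, φ_wval_apply]
  exact beq_iff.1 (allL_spec h w hw)

end Rep

/-- `S` is exactly the orbit of `b` under the words `gens`. -/
def orbIs (ns : List Net) (gens : List (List ℕ)) (b : ℕ) (steps : List ℕ) (S : ℕ) : Bool :=
  band (tb S b) (band (closedW ns gens S) (sub S (grow ns gens steps (sing b))))

theorem Rep.orb_eq_of_orbIs {G : Type*} [Group G] (ρ : Rep G) {gens : List (List ℕ)} {b S : ℕ}
    {steps : List ℕ} (h : orbIs ρ.ns gens b steps S = true) : ρ.orb (gen ρ.γ gens) b = bset S := by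
  simp only [orbIs, band_eq_true, tb_eq] at h
  refine Set.Subset.antisymm (ρ.orb_subset_of_closedW h.2.1 h.1) fun p hp => ?_
  exact ρ.grow_subset le_rfl steps (ρ.bset_sing_subset _ b) (sub_spec h.2.2 hp)

/-! ### stabiliser chains (lower bounds) -/

/-- A stabiliser chain: at each level words `gens` (fixing the earlier base points), a base point `b`, growth steps
and a lower bound `n` for the length of the orbit of `b`. -/
inductive Chain : Type
  | nil : Chain
  | cons (gens : List (List ℕ)) (b : ℕ) (steps : List ℕ) (n : ℕ) (tl : Chain) : Chain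

namespace Chain

/-- product of the orbit lengths. -/
def prod (c : Chain) : ℕ := @Chain.rec (fun _ => ℕ) 1 (fun _ _ _ n _ ih => Nat.mul n ih) c

/-- the base points. -/
def base (c : Chain) : List ℕ := @Chain.rec (fun _ => List ℕ) [] (fun _ b _ _ _ ih => b :: ih) c

/-- all words of the chain fix `b`. -/
def fixes (ns : List Net) (b : ℕ) (c : Chain) : Bool :=
  @Chain.rec (fun _ => Bool) true (fun gens _ _ _ _ ih => band (fixW ns gens b) ih) c

/-- all words of the chain use only letters in the bit set `A`. -/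
def uses (A : ℕ) (c : Chain) : Bool :=
  @Chain.rec (fun _ => Bool) true
    (fun gens _ _ _ _ ih => band (allL gens (fun w => allL w (fun x => tb A x))) ih) c

/-- the check (`k`, `e`: parameters of `popc`). -/
def check (ns : List Net) (k e : ℕ) (c : Chain) : Bool :=
  @Chain.rec (fun _ => Bool) true
    (fun gens b steps n tl ih =>
      band (cardIs k e (grow ns gens steps (sing b)) n) (band (fixes ns b tl) ih)) c

/-- all words of the chain have their value in `M`. -/
def In {G : Type*} [Group G] (γ : ℕ → G) (M : Subgroup G) : Chain → Prop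
  | nil => True
  | cons gens _ _ _ tl => gen γ gens ≤ M ∧ In γ M tl

theorem in_of_uses {G : Type*} [Group G] {γ : ℕ → G} {M : Subgroup G} {A : ℕ}
    (hA : ∀ x, A.testBit x = true → γ x ∈ M) {c : Chain} (h : c.uses A = true) : c.In γ M := by
  induction c with
  | nil => trivial
  | cons gens b steps n tl ih =>
    have h' : band (allL gens (fun w => allL w (fun x => tb A x))) (tl.uses A) = true := h
    rw [band_eq_true] at h'
    refine ⟨gen_le.2 fun w hw => wval_mem _ fun x hx => hA x ?_, ih h'.2⟩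
    rw [← tb_eq]; exact allL_spec (allL_spec h'.1 w hw) x hx

theorem in_top {G : Type*} [Group G] (γ : ℕ → G) (c : Chain) : c.In γ ⊤ := by
  induction c with
  | nil => trivial
  | cons gens b steps n tl ih => exact ⟨le_top, ih⟩

theorem in_inf_stab {G : Type*} [Group G] (ρ : Rep G) {M : Subgroup G} {b : ℕ} {c : Chain}
    (h : c.In ρ.γ M) (hb : c.fixes ρ.ns b = true) : c.In ρ.γ (M ⊓ ρ.stab b) := by
  induction c with
  | nil => trivial
  | cons gens b' steps n tl ih =>
    have h' : band (fixW ρ.ns gens b) (tl.fixes ρ.ns b) = true := hb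
    rw [band_eq_true] at h'
    exact ⟨le_inf h.1 (ρ.gen_le_stab h'.1), ih h.2 h'.2⟩

end Chain

/-- the pointwise stabiliser of a list of points. -/
def Rep.fixL {G : Type*} [Group G] (ρ : Rep G) : List ℕ → Subgroup G
  | [] => ⊤
  | b :: l => ρ.stab b ⊓ ρ.fixL l

theorem Rep.mem_fixL {G : Type*} [Group G] (ρ : Rep G) {l : List ℕ} {g : G} :
    g ∈ ρ.fixL l ↔ ∀ b ∈ l, ρ.φ g b = b := by
  induction l with
  | nil => simp [Rep.fixL]
  | cons b l ih => simp [Rep.fixL, ih, Rep.mem_stab]

theorem Rep.chain_le {G : Type*} [Group G] (ρ : Rep G) {k e : ℕ} {c : Chain}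
    (h : c.check ρ.ns k e = true) {M : Subgroup G} [Finite M] (hM : c.In ρ.γ M) :
    c.prod * Nat.card ↥(M ⊓ ρ.fixL c.base) ≤ Nat.card M := by
  induction c generalizing M with
  | nil =>
    show 1 * Nat.card ↥(M ⊓ ⊤) ≤ _
    rw [inf_top_eq, one_mul]
  | cons gens b steps n tl ih =>
    have h' : band (cardIs k e (grow ρ.ns gens steps (sing b)) n)
        (band (tl.fixes ρ.ns b) (tl.check ρ.ns k e)) = true := h
    simp only [band_eq_true] at h'
    have : Finite ↥(M ⊓ ρ.stab b) :=
      Finite.of_injective _ (Subgroup.inclusion_injective (inf_le_left : M ⊓ ρ.stab b ≤ M))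
    have h1 := ih h'.2.2 (Chain.in_inf_stab ρ hM.2 h'.2.1)
    have h2 : n ≤ (ρ.orb M b).ncard := by
      rw [← cardIs_spec h'.1]
      refine Set.ncard_le_ncard (ρ.grow_subset hM.1 steps (ρ.bset_sing_subset M b)) ?_
      exact Set.Finite.subset (Set.finite_range (fun g : M => ρ.φ g b))
        (fun _ ⟨g, hg, e⟩ => ⟨⟨g, hg⟩, e⟩)
    show n * tl.prod * Nat.card ↥(M ⊓ (ρ.stab b ⊓ ρ.fixL tl.base)) ≤ _
    rw [ρ.card_eq_ncard_orb_mul M b, ← inf_assoc, mul_assoc]
    exact Nat.mul_le_mul h2 h1

/-- If the chain product reaches an upper bound for the order, the order is exact and the base is a base. -/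
theorem Rep.chain_eq {G : Type*} [Group G] (ρ : Rep G) {k e : ℕ} {c : Chain}
    (h : c.check ρ.ns k e = true) {M : Subgroup G} [Finite M] (hM : c.In ρ.γ M)
    (hle : Nat.card M ≤ c.prod) :
    Nat.card M = c.prod ∧ ∀ g ∈ M, (∀ b ∈ c.base, ρ.φ g b = b) → g = 1 := by
  have h1 := ρ.chain_le h hM
  have : Finite ↥(M ⊓ ρ.fixL c.base) :=
    Finite.of_injective _ (Subgroup.inclusion_injective (inf_le_left : M ⊓ ρ.fixL c.base ≤ M))
  have h2 : 0 < Nat.card ↥(M ⊓ ρ.fixL c.base) := Nat.card_pos
  have h3 : 0 < Nat.card M := Nat.card_pos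
  have h4 : Nat.card ↥(M ⊓ ρ.fixL c.base) = 1 := by nlinarith
  refine ⟨by nlinarith, fun g hg hb => ?_⟩
  have h5 : M ⊓ ρ.fixL c.base = ⊥ := Subgroup.eq_bot_of_card_eq _ h4
  have : g ∈ M ⊓ ρ.fixL c.base := ⟨hg, ρ.mem_fixL.2 hb⟩
  rw [h5] at this; exact this

theorem Rep.chain_prod_le {G : Type*} [Group G] (ρ : Rep G) {k e : ℕ} {c : Chain}
    (h : c.check ρ.ns k e = true) {M : Subgroup G} [Finite M] (hM : c.In ρ.γ M) :
    c.prod ≤ Nat.card M := by
  have h1 := ρ.chain_le h hM
  have : Finite ↥(M ⊓ ρ.fixL c.base) :=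
    Finite.of_injective _ (Subgroup.inclusion_injective (inf_le_left : M ⊓ ρ.fixL c.base ≤ M))
  have h2 : 0 < Nat.card ↥(M ⊓ ρ.fixL c.base) := Nat.card_pos
  nlinarith

end

end CL.CGT
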