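import Cfsg.Agent.CGT.Pres

/-!
# Coset actions, orbits on `G ⧸ H`, primitivity and simplicity from certified computations
-/

namespace CL.CGT

noncomputable section

/-- the first `n` column words are the single letters. -/
def idOK (cw : List (List ℕ)) (n : ℕ) : Bool := allLt n (fun c => beqL (getD' cw [] c) [c])

theorem colW_of_idOK {G : Type*} [Group G] {γ : ℕ → G} {cw : List (List ℕ)} {n : ℕ}
    (h : idOK cw n = true) {c : ℕ} (hc : c < n) : colW γ cw c = γ c := by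
  rw [colW, beqL_spec (allLt_spec h c hc)]; simp

theorem genLt_congr {G : Type*} [Group G] {γ γ' : ℕ → G} {n : ℕ} (h : ∀ c < n, γ c = γ' c) :
    genLt γ n = genLt γ' n := by
  unfold genLt
  rw [Set.image_congr (s := Set.Iio n) (fun c hc => h c hc)]

/-- `ρ` restricted to `{0, …, N-1}` is the action on the cosets of `H`. -/
structure IsCoset {G : Type*} [Group G] (ρ : Rep G) (H : Subgroup G) (N : ℕ) : Prop where
  stab : ρ.stab 0 = H
  orb : ρ.orb ⊤ 0 = Set.Iio N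

/-- the checks for `isCoset_of`. -/
def cosetOK (ns : List Net) (cw subs gens : List (List ℕ)) (N nc : ℕ) (tree : List ℕ) : Bool :=
  band (idOK cw nc) (band (fixW ns subs 0) (sub (ones N) (grow ns gens tree (sing 0))))

section
variable {G : Type*} [Group G] {ρ : Rep G} {H : Subgroup G} {N : ℕ}

theorem Rep.apply_lt_of_invOK (ρ : Rep G) {nc : ℕ} (hi : invOK ρ.B N nc ρ.ns = true) {g : G}
    (hg : g ∈ genLt ρ.γ nc) (p : ℕ) : ρ.φ g p < N ↔ p < N := by
  induction hg using Subgroup.closure_induction generalizing p with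
  | mem x hx =>
    obtain ⟨c, hc, rfl⟩ := hx
    rw [ρ.compat, pm, Net.perm_apply (net_ok ρ.ok c)]
    exact invOK_lt ρ.ok hi hc p
  | one => simp
  | mul x y _ _ ihx ihy => rw [map_mul, Equiv.Perm.mul_apply, ihx, ihy]
  | inv x _ ih => rw [← ih]; simp

theorem isCoset_of (ρ : Rep G) {cw subs gens : List (List ℕ)} {nc : ℕ} {tree : List ℕ}
    (hg : Good (colW ρ.γ cw) (gen ρ.γ subs) ρ.B ρ.ns (fullK ρ.B N nc)) (hi : invOK ρ.B N nc ρ.ns = true)
    (htop : genLt ρ.γ nc = ⊤) (h : cosetOK ρ.ns cw subs gens N nc tree = true) :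
    IsCoset ρ (gen ρ.γ subs) N := by
  simp only [cosetOK, band_eq_true] at h
  obtain ⟨h1, h2, h3⟩ := h
  have hN : 0 < N := by simp only [invOK, band_eq_true, ble_iff] at hi; omega
  refine ⟨le_antisymm ?_ (ρ.gen_le_stab h2), Set.Subset.antisymm ?_ fun p hp => ?_⟩
  · have h4 := hg.stab_le ρ hi fun c hc => colW_of_idOK h1 hc
    rwa [genLt_congr fun c hc => colW_of_idOK h1 hc, htop, top_inf_eq] at h4
  · rintro _ ⟨g, -, rfl⟩
    exact (ρ.apply_lt_of_invOK hi (htop ▸ Subgroup.mem_top g) 0).2 hN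
  · refine ρ.grow_subset le_top tree (ρ.bset_sing_subset ⊤ 0) (sub_spec h3 ?_)
    rw [testBit_ones]; exact decide_eq_true hp

theorem IsCoset.index (h : IsCoset ρ H N) : H.index = N := by
  rw [← h.stab, ρ.index_stab, h.orb]; simp

theorem IsCoset.pos (h : IsCoset ρ H N) : 0 < N := by
  have := ρ.mem_orb_self ⊤ 0
  rwa [h.orb] at this

theorem IsCoset.mem_iff (h : IsCoset ρ H N) {g : G} : g ∈ H ↔ ρ.φ g 0 = 0 := by
  rw [← h.stab]; rfl

theorem IsCoset.exists_apply (h : IsCoset ρ H N) {p : ℕ} (hp : p < N) : ∃ g : G, ρ.φ g 0 = p := by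
  have : p ∈ ρ.orb ⊤ 0 := by rw [h.orb]; exact hp
  obtain ⟨g, -, e⟩ := this
  exact ⟨g, e⟩

theorem IsCoset.apply_lt (h : IsCoset ρ H N) (g : G) {p : ℕ} (hp : p < N) : ρ.φ g p < N := by
  have : p ∈ ρ.orb ⊤ 0 := by rw [h.orb]; exact hp
  have h2 := ρ.apply_mem_orb this (Subgroup.mem_top g)
  rwa [h.orb] at h2

/-- the point of a coset. -/
def IsCoset.pt (h : IsCoset ρ H N) (q : G ⧸ H) : ℕ :=
  Quotient.liftOn' q (fun g => ρ.φ g 0) (by
    intro a b hab
    rw [QuotientGroup.leftRel_apply, h.mem_iff, map_mul, map_inv, Equiv.Perm.mul_apply,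
      Equiv.Perm.inv_eq_iff_eq] at hab
    exact hab.symm)

theorem IsCoset.pt_mk (h : IsCoset ρ H N) (g : G) : h.pt (g : G ⧸ H) = ρ.φ g 0 := rfl

theorem IsCoset.pt_smul (h : IsCoset ρ H N) (g : G) (q : G ⧸ H) : h.pt (g • q) = ρ.φ g (h.pt q) := by
  obtain ⟨x, rfl⟩ := QuotientGroup.mk_surjective q
  rw [MulAction.Quotient.smul_coe, h.pt_mk, h.pt_mk, smul_eq_mul, map_mul]; rfl

theorem IsCoset.pt_injective (h : IsCoset ρ H N) : Function.Injective h.pt := by
  intro q r e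
  obtain ⟨x, rfl⟩ := QuotientGroup.mk_surjective q
  obtain ⟨y, rfl⟩ := QuotientGroup.mk_surjective r
  rw [h.pt_mk, h.pt_mk] at e
  rw [QuotientGroup.eq, h.mem_iff, map_mul, map_inv, Equiv.Perm.mul_apply, Equiv.Perm.inv_eq_iff_eq]
  exact e.symm

theorem IsCoset.exists_pt (h : IsCoset ρ H N) {p : ℕ} (hp : p < N) : ∃ q, h.pt q = p := by
  obtain ⟨g, e⟩ := h.exists_apply hp
  exact ⟨g, e⟩

theorem IsCoset.pt_lt (h : IsCoset ρ H N) (q : G ⧸ H) : h.pt q < N := by
  obtain ⟨x, rfl⟩ := QuotientGroup.mk_surjective q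
  exact h.apply_lt x h.pos

theorem IsCoset.image_orbit (h : IsCoset ρ H N) (K : Subgroup G) (q : G ⧸ H) :
    h.pt '' MulAction.orbit K q = ρ.orb K (h.pt q) := by
  ext p
  constructor
  · rintro ⟨_, ⟨g, rfl⟩, rfl⟩
    exact ⟨g.1, g.2, (h.pt_smul g.1 q).symm⟩
  · rintro ⟨g, hg, rfl⟩
    exact ⟨_, ⟨⟨g, hg⟩, rfl⟩, h.pt_smul g q⟩

theorem IsCoset.ncard_orbit (h : IsCoset ρ H N) (K : Subgroup G) (q : G ⧸ H) :
    (MulAction.orbit K q).ncard = (ρ.orb K (h.pt q)).ncard := by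
  rw [← h.image_orbit, Set.ncard_image_of_injective _ h.pt_injective]

theorem IsCoset.exists_orbit (h : IsCoset ρ H N) (K : Subgroup G) {b n : ℕ} (hb : b < N)
    (hn : (ρ.orb K b).ncard = n) : ∃ q : G ⧸ H, h.pt q = b ∧ (MulAction.orbit K q).ncard = n := by
  obtain ⟨q, rfl⟩ := h.exists_pt hb
  exact ⟨q, rfl, (h.ncard_orbit K q).trans hn⟩

theorem IsCoset.orbit_ne (h : IsCoset ρ H N) (K : Subgroup G) {q r : G ⧸ H}
    (hn : h.pt r ∉ ρ.orb K (h.pt q)) : MulAction.orbit K q ≠ MulAction.orbit K r := by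
  intro e
  apply hn
  rw [← h.image_orbit, e]
  exact ⟨r, MulAction.mem_orbit_self r, rfl⟩

/-- `ρ` is faithful on `{0, …, N-1}`. -/
def Rep.Faithful (ρ : Rep G) (N : ℕ) : Prop := ∀ g : G, (∀ p < N, ρ.φ g p = p) → g = 1

theorem Rep.Faithful.injective (hf : ρ.Faithful N) : Function.Injective ρ.φ := by
  rw [injective_iff_map_eq_one]
  intro g hg
  exact hf g fun p _ => by rw [hg]; rfl

/-- word identities in a faithful representation. -/
theorem Rep.Faithful.wval_eq (hf : ρ.Faithful N) {E : List (List ℕ × List ℕ)}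
    (hE : ∀ e ∈ E, wval (pm ρ.ns) e.1 = wval (pm ρ.ns) e.2) : ∀ e ∈ E, wval ρ.γ e.1 = wval ρ.γ e.2 :=
  fun e he => hf.injective (by rw [ρ.φ_wval, ρ.φ_wval, hE e he])

theorem Rep.Faithful.wval_eq_of_eqAll (hf : ρ.Faithful N) {w : ℕ} {u v : List ℕ}
    (hE : eqAll ρ.ns ρ.B w [(u, v)] = true) : wval ρ.γ u = wval ρ.γ v :=
  hf.wval_eq (wval_pm_eq_of_eqAll ρ.ok hE) (u, v) List.mem_cons_self

theorem IsCoset.fix_of_normal (h : IsCoset ρ H N) {K : Subgroup G} [hK : K.Normal] (hle : K ≤ H) {g : G}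
    (hg : g ∈ K) {p : ℕ} (hp : p < N) : ρ.φ g p = p := by
  obtain ⟨x, rfl⟩ := h.exists_apply hp
  have h1 := h.mem_iff.1 (hle (hK.conj_mem' g hg x))
  rw [map_mul, map_mul, map_inv, Equiv.Perm.mul_apply, Equiv.Perm.mul_apply, Equiv.Perm.inv_eq_iff_eq] at h1
  exact h1

theorem IsCoset.normalCore_eq_bot (h : IsCoset ρ H N) (hf : ρ.Faithful N) : H.normalCore = ⊥ := by
  rw [eq_bot_iff]
  intro g hg
  exact hf g fun p hp => h.fix_of_normal H.normalCore_le hg hp

theorem IsCoset.faithful_of_normalCore (h : IsCoset ρ H N) (hc : H.normalCore = ⊥) : ρ.Faithful N := by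
  intro g hg
  rw [← Subgroup.mem_bot, ← hc]
  intro x
  rw [h.mem_iff, map_mul, map_mul, Equiv.Perm.mul_apply, Equiv.Perm.mul_apply, hg _ (h.apply_lt _ h.pos)]
  simp

/-- exact order and faithfulness from a stabiliser chain. -/
theorem Rep.card_eq_of_chain (ρ : Rep G) {k e : ℕ} {c : Chain} {n : ℕ}
    (h : band (c.check ρ.ns k e) (band (Nat.beq c.prod n) (allL c.base fun b => Nat.ble (Nat.succ b) N)) = true)
    (hle : Finite (⊤ : Subgroup G) ∧ Nat.card (⊤ : Subgroup G) ≤ n) :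
    Finite G ∧ Nat.card G = n ∧ ρ.Faithful N := by
  simp only [band_eq_true, beq_iff] at h
  obtain ⟨h1, h2, h3⟩ := h
  have := hle.1
  obtain ⟨h4, h5⟩ := ρ.chain_eq h1 (Chain.in_top ρ.γ c) (h2 ▸ hle.2)
  refine ⟨Finite.of_equiv _ Subgroup.topEquiv.toEquiv, by rw [← h2, ← h4, Subgroup.card_top], fun g hg => ?_⟩
  exact h5 g (Subgroup.mem_top g) fun b hb => hg b (blt_iff.1 (allL_spec h3 b hb))

end

/-! ### orbits of the point stabiliser -/

/-- union of `{0}` and of the grown orbits; an entry is (point, growth steps, length). -/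
def orbsU (ns : List Net) (gens : List (List ℕ)) (L : List (ℕ × List ℕ × ℕ)) : ℕ :=
  @List.rec (ℕ × List ℕ × ℕ) (fun _ => ℕ) 1 (fun t _ ih => Nat.lor (grow ns gens t.2.1 (sing t.1)) ih) L

/-- the entries of `L` describe orbits that cover `{1, …, N-1}`. -/
def orbsOK (ns : List Net) (gens : List (List ℕ)) (k e N : ℕ) (L : List (ℕ × List ℕ × ℕ)) : Bool :=
  band (allL L fun t => band (band (Nat.ble (Nat.succ t.1) N) (tb (grow ns gens t.2.1 (sing t.1)) t.1))
      (band (closedW ns gens (grow ns gens t.2.1 (sing t.1))) (cardIs k e (grow ns gens t.2.1 (sing t.1)) t.2.2)))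
    (sub (ones N) (orbsU ns gens L))

section
variable {G : Type*} [Group G] {ρ : Rep G} {H : Subgroup G} {N : ℕ}

theorem orbsOK_orb (ρ : Rep G) {gens : List (List ℕ)} {k e : ℕ} {L : List (ℕ × List ℕ × ℕ)}
    (h : orbsOK ρ.ns gens k e N L = true) {t : ℕ × List ℕ × ℕ} (ht : t ∈ L) :
    t.1 < N ∧ ρ.orb (gen ρ.γ gens) t.1 = bset (grow ρ.ns gens t.2.1 (sing t.1)) ∧
      (ρ.orb (gen ρ.γ gens) t.1).ncard = t.2.2 := by
  simp only [orbsOK, band_eq_true] at h
  have h1 := allL_spec h.1 t ht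
  simp only [band_eq_true, blt_iff, tb_eq] at h1
  have h2 : ρ.orb (gen ρ.γ gens) t.1 = bset (grow ρ.ns gens t.2.1 (sing t.1)) :=
    Set.Subset.antisymm (ρ.orb_subset_of_closedW h1.2.1 h1.1.2)
      (ρ.grow_subset le_rfl _ (ρ.bset_sing_subset _ _))
  exact ⟨h1.1.1, h2, by rw [h2, cardIs_spec h1.2.2]⟩

theorem orbsOK_cover (ρ : Rep G) {gens : List (List ℕ)} {k e : ℕ} {L : List (ℕ × List ℕ × ℕ)}
    (h : orbsOK ρ.ns gens k e N L = true) {p : ℕ} (hp : p < N) :
    p = 0 ∨ ∃ t ∈ L, p ∈ ρ.orb (gen ρ.γ gens) t.1 := by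
  simp only [orbsOK, band_eq_true] at h
  have h1 := sub_spec h.2 (p := p) (by rw [testBit_ones]; exact decide_eq_true hp)
  clear h
  induction L with
  | nil =>
    left
    have h2 : (sing 0).testBit p = true := h1
    rw [testBit_sing] at h2; exact of_decide_eq_true h2
  | cons t L ih =>
    have h2 : (Nat.lor (grow ρ.ns gens t.2.1 (sing t.1)) (orbsU ρ.ns gens L)).testBit p = true := h1
    rw [testBit_lor, Bool.or_eq_true] at h2
    rcases h2 with h2 | h2
    · exact Or.inr ⟨t, List.mem_cons_self, ρ.grow_subset le_rfl _ (ρ.bset_sing_subset _ _) h2⟩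
    · rcases ih h2 with h3 | ⟨s, hs, h3⟩
      · exact Or.inl h3
      · exact Or.inr ⟨s, List.mem_cons_of_mem _ hs, h3⟩

/-- sums of sublists. -/
def subSums : List ℕ → List ℕ
  | [] => [0]
  | a :: l => subSums l ++ (subSums l).map (a + ·)

theorem ncard_mem_subSums (ρ : Rep G) (K : Subgroup G) (L : List (ℕ × List ℕ × ℕ))
    (hL : ∀ t ∈ L, (ρ.orb K t.1).ncard = t.2.2) {O : Set ℕ} (hfin : O.Finite)
    (hinv : ∀ p ∈ O, ρ.orb K p ⊆ O) (hcov : ∀ p ∈ O, ∃ t ∈ L, p ∈ ρ.orb K t.1) :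
    O.ncard ∈ subSums (L.map fun t => t.2.2) := by
  induction L generalizing O with
  | nil =>
    have : O = ∅ := Set.eq_empty_of_forall_notMem fun p hp => by simpa using hcov p hp
    simp [this, subSums]
  | cons t L ih =>
    have h1 := ih (fun s hs => hL s (List.mem_cons_of_mem _ hs)) (O := O \ ρ.orb K t.1) (hfin.subset Set.sdiff_subset)
      (fun p hp q hq => ⟨hinv p hp.1 hq, fun hq' => hp.2 (by
        rw [← ρ.orb_eq_of_mem hq', ρ.orb_eq_of_mem hq]; exact ρ.mem_orb_self K p)⟩)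
      (fun p hp => by
        obtain ⟨s, hs, h⟩ := hcov p hp.1
        rcases List.mem_cons.1 hs with rfl | hs
        · exact absurd h hp.2
        · exact ⟨s, hs, h⟩)
    simp only [List.map_cons, subSums, List.mem_append, List.mem_map]
    by_cases h2 : ∃ p ∈ O, p ∈ ρ.orb K t.1
    · obtain ⟨p, hp, hp'⟩ := h2
      have h3 : ρ.orb K t.1 ⊆ O := by rw [← ρ.orb_eq_of_mem hp']; exact hinv p hp
      refine Or.inr ⟨_, h1, ?_⟩
      rw [← hL t List.mem_cons_self, add_comm, Set.ncard_sdiff_add_ncard_of_subset h3 hfin]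
    · left
      rwa [sdiff_eq_left.2 (Set.disjoint_left.2 fun p hp hp' => h2 ⟨p, hp, hp'⟩)] at h1

/-- primitivity from the subdegrees. -/
theorem IsCoset.isCoatom (h : IsCoset ρ H N) (hN : 1 < N) {L : List (ℕ × List ℕ × ℕ)}
    (hL : ∀ t ∈ L, (ρ.orb H t.1).ncard = t.2.2) (hcov : ∀ p < N, p = 0 ∨ ∃ t ∈ L, p ∈ ρ.orb H t.1)
    (har : ∀ s ∈ subSums (L.map fun t => t.2.2), (s + 1) ∣ N → s = 0 ∨ s + 1 = N) : IsCoatom H := by
  refine ⟨fun e => ?_, fun M hM => ?_⟩
  · have := h.index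
    rw [e, Subgroup.index_top] at this; omega
  have hsub : ρ.orb M 0 ⊆ Set.Iio N := h.orb ▸ ρ.orb_mono le_top 0
  have hfin : (ρ.orb M 0).Finite := (Set.finite_lt_nat N).subset hsub
  have h1 := ncard_mem_subSums ρ H L hL (O := ρ.orb M 0 \ {0}) (hfin.subset Set.sdiff_subset)
    (fun p hp q hq => by
      obtain ⟨g, hg, rfl⟩ := hq
      refine ⟨ρ.apply_mem_orb hp.1 (hM.le hg), fun e => hp.2 ?_⟩
      have e1 : ρ.φ g p = ρ.φ g 0 := by rw [h.mem_iff.1 hg]; exact e
      exact (ρ.φ g).injective e1)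
    (fun p hp => (hcov p (hsub hp.1)).resolve_left hp.2)
  have h2 : (ρ.orb M 0 \ {0}).ncard + 1 = H.relIndex M := by
    rw [← h.stab, ρ.relIndex_stab, Set.ncard_sdiff_singleton_add_one (ρ.mem_orb_self M 0) hfin]
  have h3 : H.relIndex M * M.index = N := by rw [Subgroup.relIndex_mul_index hM.le, h.index]
  rcases har _ h1 (by rw [h2]; exact Dvd.intro _ h3) with h4 | h4
  · exfalso
    rw [h4] at h2
    exact hM.not_ge (Subgroup.relIndex_eq_one.1 h2.symm)
  · rw [← h2, h4] at h3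
    rw [← Subgroup.index_eq_one]
    exact Nat.eq_of_mul_eq_mul_left h.pos (by rw [h3, mul_one])

theorem IsCoset.isCoatom_of_orbsOK {gens : List (List ℕ)} (h : IsCoset ρ (gen ρ.γ gens) N) (hN : 1 < N) {k e : ℕ}
    {L : List (ℕ × List ℕ × ℕ)} (ho : orbsOK ρ.ns gens k e N L = true)
    (har : ∀ s ∈ subSums (L.map fun t => t.2.2), (s + 1) ∣ N → s = 0 ∨ s + 1 = N) :
    IsCoatom (gen ρ.γ gens) :=
  h.isCoatom hN (fun _ ht => (orbsOK_orb ρ ho ht).2.2) (fun _ hp => orbsOK_cover ρ ho hp) har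

end

/-! ### simplicity -/

section simple
variable {G : Type*} [Group G]

/-- In a faithful primitive group with point stabiliser `H`, every non-trivial normal subgroup contains all elements
whose order is coprime to `|H|`. -/
theorem mem_normal_of_coatom {H : Subgroup G} [Finite H] (hmax : IsCoatom H) (hcore : H.normalCore = ⊥)
    {K : Subgroup G} [hK : K.Normal] (hne : K ≠ ⊥) {x : G} {m : ℕ} (hx : x ^ m = 1)
    (hm : Nat.Coprime m (Nat.card H)) : x ∈ K := by
  have h1 : ¬ K ≤ H := fun hle => hne (eq_bot_iff.2 (hcore ▸ Subgroup.normal_le_normalCore.2 hle))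
  have h2 : K ⊔ H = ⊤ := hmax.2 _ (right_lt_sup.2 h1)
  have hsurj : Function.Surjective ((QuotientGroup.mk' K).comp H.subtype) := by
    intro q
    obtain ⟨g, rfl⟩ := QuotientGroup.mk_surjective q
    have hg : g ∈ K ⊔ H := h2 ▸ Subgroup.mem_top g
    rw [← SetLike.mem_coe, Subgroup.normal_mul] at hg
    obtain ⟨k, hk, y, hy, rfl⟩ := hg
    refine ⟨⟨y, hy⟩, ?_⟩
    simp [(QuotientGroup.eq_one_iff k).2 hk]
  have h3 : orderOf (x : G ⧸ K) ∣ Nat.card H :=
    (orderOf_dvd_natCard _).trans (Subgroup.card_dvd_of_surjective _ hsurj)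
  have h4 : orderOf (x : G ⧸ K) ∣ m := by
    apply orderOf_dvd_of_pow_eq_one
    rw [← QuotientGroup.mk_pow, hx, QuotientGroup.mk_one]
  rw [← QuotientGroup.eq_one_iff, ← orderOf_eq_one_iff]
  exact Nat.eq_one_of_dvd_coprimes hm h4 h3

theorem isSimpleGroup_of_coatom {H : Subgroup G} [Finite H] (hmax : IsCoatom H) (hcore : H.normalCore = ⊥)
    {m : ℕ} (hm : Nat.Coprime m (Nat.card H))
    (hgen : ∀ K : Subgroup G, K.Normal → (∀ x : G, x ^ m = 1 → x ∈ K) → K = ⊤) : IsSimpleGroup G := by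
  have : Nontrivial G := by
    by_contra h
    rw [not_nontrivial_iff_subsingleton] at h
    exact hmax.1 (Subsingleton.elim _ _)
  refine ⟨fun K hK => ?_⟩
  by_cases h : K = ⊥
  · exact Or.inl h
  · exact Or.inr (hgen K hK fun x hx => mem_normal_of_coatom hmax hcore h hx hm)

/-- A normal subgroup containing the words `xs` is everything if the group collapses after adding them as relators. -/
theorem eq_top_of_collapse {γ : ℕ → G} {iv : ℕ → ℕ} (hiv : ∀ c, γ (iv c) = (γ c)⁻¹) {base xs : List (List ℕ)}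
    (hb : ∀ r ∈ base, wval γ r = 1) {gens : List (List ℕ)} (htop : gen γ gens = ⊤) {K : Subgroup G} [K.Normal]
    (hx : ∀ r ∈ xs, wval γ r ∈ K)
    (hc : ∀ μ : ℕ → G ⧸ K, (∀ c, μ (iv c) = (μ c)⁻¹) → (∀ r ∈ appL base xs, wval μ r = 1) →
      (gen μ []).relIndex (gen μ gens) ≠ 0 ∧ (gen μ []).relIndex (gen μ gens) ≤ 1) : K = ⊤ := by
  have e : ∀ w, wval (fun c => QuotientGroup.mk' K (γ c)) w = QuotientGroup.mk' K (wval γ w) :=
    fun w => (wval_map γ _ w).symm
  have h1 := hc (fun c => QuotientGroup.mk' K (γ c)) (fun c => by rw [hiv, map_inv])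
    (rels_append (fun r hr => by rw [e, hb r hr, map_one])
      (fun r hr => by rw [e]; exact (QuotientGroup.eq_one_iff _).2 (hx r hr)))
  have h2 := Subgroup.relIndex_eq_one.1 (le_antisymm h1.2 (Nat.pos_of_ne_zero h1.1))
  rw [eq_top_iff, ← htop, gen_le]
  intro w hw
  have h3 := h2 (wval_mem_gen _ hw)
  have h4 : gen (fun c => QuotientGroup.mk' K (γ c)) [] = ⊥ := by simp [gen]
  rw [h4, Subgroup.mem_bot, e] at h3
  exact (QuotientGroup.eq_one_iff _).1 h3

/-- conjugates of powers of products of elements of `K`. -/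
theorem wval_mem_of_conj {γ : ℕ → G} {K : Subgroup G} [hK : K.Normal] {u v w : List ℕ}
    (hu : wval γ u ∈ K) (h : wval γ (appL u w) = wval γ (appL w v)) : wval γ v ∈ K := by
  simp only [appL_eq, wval_append] at h
  have : wval γ v = wval γ w * wval γ u * (wval γ w)⁻¹ := by rw [h]; simp
  rw [this]; exact hK.conj_mem _ hu _

theorem gen_nil {γ : ℕ → G} : gen γ [] = ⊥ := by simp [gen]

theorem card_gen_nil {γ : ℕ → G} : Finite (gen γ []) ∧ Nat.card (gen γ []) ≤ 1 := by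
  rw [gen_nil]; exact ⟨inferInstance, by simp⟩

theorem IsCoset.card_eq {ρ : Rep G} {H : Subgroup G} {N m : ℕ} (h : IsCoset ρ H N) (hG : Nat.card G = N * m) :
    Nat.card H = m := by
  have h1 := H.card_mul_index
  rw [h.index, hG, mul_comm] at h1
  exact Nat.eq_of_mul_eq_mul_left h.pos h1

theorem Rep.Faithful.pow_eq_one {ρ : Rep G} {N w p : ℕ} (hf : ρ.Faithful N) {xs : List (List ℕ)}
    (hx : eqAll ρ.ns ρ.B w (mapL (fun u => (pw u p, [])) xs) = true) : ∀ u ∈ xs, wval ρ.γ u ^ p = 1 := by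
  intro u hu
  have h1 := hf.wval_eq (wval_pm_eq_of_eqAll ρ.ok hx) (pw u p, []) (by
    rw [mapL_eq]; exact List.mem_map_of_mem (f := fun u => (pw u p, ([] : List ℕ))) hu)
  rwa [wval_pw] at h1

end simple

/-- simplicity of a faithful coset action from the subdegrees and a collapsing coset enumeration. -/
theorem IsCoset.isSimpleGroup.{u} {G : Type u} [Group G] {ρ : Rep G} {N : ℕ} {gens : List (List ℕ)}
    (h : IsCoset ρ (gen ρ.γ gens) N) {n m p : ℕ} (hc : Finite G ∧ Nat.card G = n ∧ ρ.Faithful N)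
    {k e : ℕ} {L : List (ℕ × List ℕ × ℕ)} (ho : orbsOK ρ.ns gens k e N L = true)
    (har : 1 < N ∧ n = N * m ∧ Nat.Coprime p m ∧
      ∀ s ∈ subSums (L.map fun t => t.2.2), (s + 1) ∣ N → s = 0 ∨ s + 1 = N)
    {iv : ℕ → ℕ} (hiv : ∀ c, ρ.γ (iv c) = (ρ.γ c)⁻¹) {base xs allg : List (List ℕ)}
    (hb : ∀ r ∈ base, wval ρ.γ r = 1) (htop : gen ρ.γ allg = ⊤)
    (hx : ∀ u ∈ xs, wval ρ.γ u ^ p = 1)
    (hcol : ∀ {Q : Type u} [Group Q] {μ : ℕ → Q}, (∀ c, μ (iv c) = (μ c)⁻¹) →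
      (∀ r ∈ appL base xs, wval μ r = 1) →
      (gen μ []).relIndex (gen μ allg) ≠ 0 ∧ (gen μ []).relIndex (gen μ allg) ≤ 1) : IsSimpleGroup G := by
  have := hc.1
  refine isSimpleGroup_of_coatom (h.isCoatom_of_orbsOK har.1 ho har.2.2.2) (h.normalCore_eq_bot hc.2.2) (m := p)
    (by rw [h.card_eq (hc.2.1.trans har.2.1)]; exact har.2.2.1) fun K hK hp => ?_
  exact eq_top_of_collapse hiv hb htop (fun r hr => hp _ (hx r hr)) fun μ h1 h2 => hcol h1 h2

/-! ### subgroups given by words of the free group -/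

section cox
open Cfsg.Spor
variable {α : Type} [DecidableEq α] {edges : List (α × ℕ × α)} {extra : List (FreeGroup α)} {cl : List (α × Bool)}
  {idx : α → ℕ} {IV : ℕ} {prs : List (ℕ × ℕ × ℕ)} {ex : List WE}

theorem CoxData.map_closure (hd : CoxData edges extra cl idx IV prs ex) (sw : List WE) {S : Set (FreeGroup α)}
    {L : List (FreeGroup α)} (hS : ∀ x, x ∈ S ↔ x ∈ L) (hL : sw.map (WE.eval (colF cl)) = L)
    {subs : List (List ℕ)} (hs : sw.map (WE.toL (ivT IV cl.length)) = subs) :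
    (Subgroup.closure S).map (PresentedGroup.mk (coxRelators edges ∪ {r | r ∈ extra})) =
      gen (coxγ edges extra cl) subs := by
  rw [MonoidHom.map_closure, gen]
  congr 1
  ext g
  simp only [Set.mem_image, hS, ← hL, ← hs, List.mem_map, Set.mem_ofPred_eq, exists_exists_and_eq_and,
    WE.wval_toL hd.ivG, WE.map_eval]
  rfl

end cox

end

end CL.CGT
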