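import Cfsg.Agent.CGT.Univ

/-! # Derived relators, isomorphisms from universal groups -/

namespace CL.CGT

noncomputable section

theorem Rep.Faithful.rels {G : Type*} [Group G] {ρ : Rep G} {N w : ℕ} (hf : ρ.Faithful N) {zs : List (List ℕ)}
    (h : eqAll ρ.ns ρ.B w (mapL (fun z => (z, [])) zs) = true) : ∀ z ∈ zs, wval ρ.γ z = 1 := by
  intro z hz
  exact hf.wval_eq (wval_pm_eq_of_eqAll ρ.ok h) (z, []) (by
    rw [mapL_eq]; exact List.mem_map_of_mem (f := fun u => (u, ([] : List ℕ))) hz)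

/-- the relators `c · iv c`. -/
def ivRels (iv : ℕ → ℕ) (n : ℕ) : List (List ℕ) :=
  @Nat.rec (fun _ => List (List ℕ)) [] (fun c ih => [c, iv c] :: ih) n

theorem mem_ivRels {iv : ℕ → ℕ} {n c : ℕ} (hc : c < n) : [c, iv c] ∈ ivRels iv n := by
  induction n with
  | zero => omega
  | succ n ih =>
    have e : ivRels iv (n + 1) = [n, iv n] :: ivRels iv n := rfl
    rw [e]
    rcases Nat.lt_succ_iff_lt_or_eq.1 hc with h | rfl
    · exact List.mem_cons_of_mem _ (ih h)
    · exact List.mem_cons_self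

/-- the words `cw` satisfy a presentation (checked in a faithful representation). -/
theorem Rep.Faithful.colW_hom {G : Type*} [Group G] {ρ : Rep G} {N w : ℕ} (hf : ρ.Faithful N) {iv0 : ℕ → ℕ}
    (hiv0 : ∀ c, ρ.γ (iv0 c) = (ρ.γ c)⁻¹) {cw base : List (List ℕ)} {IV nc : ℕ}
    (hl : Nat.ble (lenL cw) nc = true)
    (h : eqAll ρ.ns ρ.B w
      (mapL (fun z => (red iv0 (flat cw z), [])) (appL (ivRels (ivT IV nc) nc) base)) = true) :
    (∀ c, colW ρ.γ cw (ivT IV nc c) = (colW ρ.γ cw c)⁻¹) ∧ ∀ r ∈ base, wval (colW ρ.γ cw) r = 1 := by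
  have key : ∀ r ∈ appL (ivRels (ivT IV nc) nc) base, wval (colW ρ.γ cw) r = 1 := by
    intro r hr
    have h1 := hf.wval_eq (wval_pm_eq_of_eqAll ρ.ok h) (red iv0 (flat cw r), []) (by
      rw [mapL_eq]; exact List.mem_map_of_mem (f := fun z => (red iv0 (flat cw z), ([] : List ℕ))) hr)
    rwa [wval_red hiv0, wval_flat] at h1
  simp only [appL_eq, List.mem_append] at key
  refine ⟨fun c => ?_, fun r hr => key r (Or.inr hr)⟩
  rcases le_or_gt nc c with hc | hc
  · have : ivT IV nc c = c := by simp [ivT, cnd_eq_ite, hc]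
    rw [this, colW_of_le (le_trans (by rwa [ble_iff, lenL_eq] at hl) hc), inv_one]
  · have h1 := key _ (Or.inl (mem_ivRels hc))
    simp only [wval_cons, wval_nil, one_mul] at h1
    exact eq_inv_of_mul_eq_one_left h1

theorem colW_mem_gen {G : Type*} [Group G] (γ : ℕ → G) (cw : List (List ℕ)) (c : ℕ) : colW γ cw c ∈ gen γ cw := by
  rcases getD'_mem_or cw [] c with h | h
  · exact wval_mem_gen _ h
  · rw [colW, h]; exact Subgroup.one_mem _

theorem gen_flat_le {G : Type*} [Group G] (γ : ℕ → G) (cw ws : List (List ℕ)) :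
    gen γ (mapL (flat cw) ws) ≤ gen γ cw := by
  rw [← gen_colW, gen_le]
  exact fun w _ => wval_mem _ fun c _ => colW_mem_gen γ cw c

/-- the homomorphism from the universal group sending the generators to the words `cw`. -/
def LP.liftW {iv : ℕ → ℕ} {nc : ℕ} {base : List (List ℕ)} {G : Type*} [Group G] {γ : ℕ → G} {cw : List (List ℕ)}
    (hl : Nat.ble (lenL cw) nc = true) (hiv : ∀ c, colW γ cw (iv c) = (colW γ cw c)⁻¹)
    (hb : ∀ r ∈ base, wval (colW γ cw) r = 1) : LP iv nc base →* G :=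
  LP.lift (colW γ cw) hiv (fun _ hc => colW_of_le (le_trans (by rwa [ble_iff, lenL_eq] at hl) hc)) hb

theorem LP.liftW_wval {iv : ℕ → ℕ} {nc : ℕ} {base : List (List ℕ)} {G : Type*} [Group G] {γ : ℕ → G}
    {cw : List (List ℕ)} (hl : Nat.ble (lenL cw) nc = true) (hiv : ∀ c, colW γ cw (iv c) = (colW γ cw c)⁻¹)
    (hb : ∀ r ∈ base, wval (colW γ cw) r = 1) (w : List ℕ) :
    LP.liftW hl hiv hb (wval (LP.γ iv nc base) w) = wval γ (flat cw w) := by
  rw [LP.liftW, LP.lift_wval, wval_flat]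

theorem LP.range_liftW {iv : ℕ → ℕ} {nc : ℕ} {base : List (List ℕ)} {G : Type*} [Group G] {γ : ℕ → G}
    {cw : List (List ℕ)} (hl : Nat.ble (lenL cw) nc = true) (hiv : ∀ c, colW γ cw (iv c) = (colW γ cw c)⁻¹)
    (hb : ∀ r ∈ base, wval (colW γ cw) r = 1) : (LP.liftW hl hiv hb).range = gen γ cw := by
  rw [LP.liftW, LP.range_lift, genLt_colW, List.take_of_length_le (by rwa [ble_iff, lenL_eq] at hl)]

theorem LP.map_liftW {iv : ℕ → ℕ} {nc : ℕ} {base : List (List ℕ)} {G : Type*} [Group G] {γ : ℕ → G}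
    {cw : List (List ℕ)} (hl : Nat.ble (lenL cw) nc = true) (hiv : ∀ c, colW γ cw (iv c) = (colW γ cw c)⁻¹)
    (hb : ∀ r ∈ base, wval (colW γ cw) r = 1) (gens : List (List ℕ)) :
    (gen (LP.γ iv nc base) gens).map (LP.liftW hl hiv hb) = gen γ (mapL (flat cw) gens) := by
  rw [gen_map, ← gen_colW]
  congr 1
  ext c
  exact LP.lift_γ _ _ _ _ c

/-- relators of the universal group hold in every group satisfying the base relators. -/
theorem LP.derive {iv : ℕ → ℕ} {nc : ℕ} {base zs : List (List ℕ)}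
    (hz : ∀ z ∈ zs, wval (LP.γ iv nc base) z = 1) {G : Type*} [Group G] {γ : ℕ → G} {cw : List (List ℕ)}
    (hl : Nat.ble (lenL cw) nc = true) (hiv : ∀ c, colW γ cw (iv c) = (colW γ cw c)⁻¹)
    (hb : ∀ r ∈ base, wval (colW γ cw) r = 1) : ∀ r ∈ mapL (flat cw) zs, wval γ r = 1 := by
  intro r hr
  rw [mapL_eq, List.mem_map] at hr
  obtain ⟨z, hz', rfl⟩ := hr
  rw [← LP.liftW_wval hl hiv hb, hz z hz', map_one]

/-- a homomorphism onto a group of at least the same finite order is an isomorphism onto its range. -/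
theorem nonempty_equiv_range_of_card_le {G M : Type*} [Group G] [Group M] [Finite G] (f : G →* M)
    (h : Nat.card G ≤ Nat.card f.range) : Nonempty (G ≃* f.range) :=
  ⟨MulEquiv.ofBijective f.rangeRestrict
    ((Nat.bijective_iff_surjective_and_card _).2 ⟨f.rangeRestrict_surjective,
      le_antisymm h (Nat.card_le_card_of_surjective _ f.rangeRestrict_surjective)⟩)⟩

theorem injective_of_simple {G M : Type*} [Group G] [Group M] [IsSimpleGroup G] (f : G →* M) {g : G}
    (h : f g ≠ 1) : Function.Injective f := by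
  rw [← MonoidHom.ker_eq_bot_iff]
  rcases f.normal_ker.eq_bot_or_eq_top with h1 | h1
  · exact h1
  · exact absurd (show g ∈ f.ker from h1 ▸ Subgroup.mem_top g) h

/-- an injective homomorphism into a subgroup of the same finite order. -/
theorem nonempty_equiv_of_injective {G M : Type*} [Group G] [Group M] (f : G →* M) (hf : Function.Injective f)
    {X : Subgroup M} [Finite X] (hle : f.range ≤ X) (hc : Nat.card X ≤ Nat.card G) : Nonempty (G ≃* X) := by
  have h1 : Nat.card f.range = Nat.card G := (Nat.card_congr (MonoidHom.ofInjective hf).toEquiv).symm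
  have h2 : f.range = X := Subgroup.eq_of_le_of_card_ge hle (by rw [h1]; exact hc)
  exact ⟨(MonoidHom.ofInjective hf).trans (MulEquiv.subgroupCongr h2)⟩

theorem wval_ne_one {G : Type*} [Group G] (ρ : Rep G) {w : List ℕ} {p : ℕ}
    (h : Nat.beq (walk ρ.ns w p) p = false) : wval ρ.γ w ≠ 1 := by
  intro e
  rw [← ρ.φ_wval_apply, e, map_one] at h
  simp at h

end

end CL.CGT
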