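import Cfsg.Agent.CGT.Derive
import Cfsg.Agent.CGM.Rep

/-!
# Homomorphisms from universal groups to groups with a black-box model; packed matrices over `GF(4)`
-/

namespace CL.CGT

open CL.CGM

noncomputable section

/-- value of a word (walk order) on codes. -/
def wC (mul : ℕ → ℕ → ℕ) (one : ℕ) (g : List ℕ) (l : List ℕ) : ℕ :=
  @List.rec ℕ (fun _ => ℕ) one (fun c _ ih => frc ih (mul ih (getD' g one c))) l

theorem isRep_wC {G : Type*} [Group G] {mul : ℕ → ℕ → ℕ} {one : ℕ} {R : ℕ → G → Prop} (h : IsRep mul one R)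
    {g : List ℕ} {f : ℕ → G} (hf : ∀ c, R (getD' g one c) (f c)) (l : List ℕ) : R (wC mul one g l) (wval f l) := by
  induction l with
  | nil => exact h.one
  | cons c l ih =>
    have e : wC mul one g (c :: l) = mul (wC mul one g l) (getD' g one c) := frc_eq _ _
    rw [e]; exact h.mul ih (hf c)

/-- the codes `g` satisfy the presentation. -/
def homOK (mul : ℕ → ℕ → ℕ) (one : ℕ) (g : List ℕ) (IV nc : ℕ) (base : List (List ℕ)) : Bool :=
  band (Nat.ble (lenL g) nc)
    (band (allLt nc fun c => Nat.beq (mul (getD' g one (ivT IV nc c)) (getD' g one c)) one)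
      (allL base fun r => Nat.beq (wC mul one g r) one))

section
variable {G : Type*} [Group G] {mul : ℕ → ℕ → ℕ} {one : ℕ} {R : ℕ → G → Prop} {g : List ℕ} {f : ℕ → G}
  {IV nc : ℕ} {base : List (List ℕ)}

theorem homOK_one (h : IsRep mul one R) (hf : ∀ c, R (getD' g one c) (f c))
    (hc : homOK mul one g IV nc base = true) (c : ℕ) (hle : nc ≤ c) : f c = 1 := by
  simp only [homOK, band_eq_true, ble_iff, lenL_eq] at hc
  have h1 := hf c
  rw [getD'_eq, List.getD_eq_default _ _ (hc.1.trans hle)] at h1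
  exact h.uniq h1 h.one

theorem homOK_iv (h : IsRep mul one R) (hf : ∀ c, R (getD' g one c) (f c))
    (hc : homOK mul one g IV nc base = true) (c : ℕ) : f (ivT IV nc c) = (f c)⁻¹ := by
  rcases le_or_gt nc c with hle | hlt
  · have : ivT IV nc c = c := by simp [ivT, cnd_eq_ite, hle]
    rw [this, homOK_one h hf hc c hle, inv_one]
  · simp only [homOK, band_eq_true] at hc
    exact eq_inv_of_mul_eq_one_left (h.eq_one (h.mul (hf _) (hf _)) (allLt_spec hc.2.1 c hlt))

theorem homOK_rels (h : IsRep mul one R) (hf : ∀ c, R (getD' g one c) (f c))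
    (hc : homOK mul one g IV nc base = true) : ∀ r ∈ base, wval f r = 1 := by
  simp only [homOK, band_eq_true] at hc
  exact fun r hr => h.eq_one (isRep_wC h hf r) (allL_spec hc.2.2 r hr)

/-- the homomorphism from the universal group. -/
def liftC (h : IsRep mul one R) (hf : ∀ c, R (getD' g one c) (f c))
    (hc : homOK mul one g IV nc base = true) : LP (ivT IV nc) nc base →* G :=
  LP.lift f (homOK_iv h hf hc) (homOK_one h hf hc) (homOK_rels h hf hc)

theorem liftC_γ (h : IsRep mul one R) (hf : ∀ c, R (getD' g one c) (f c))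
    (hc : homOK mul one g IV nc base = true) (c : ℕ) : liftC h hf hc (LP.γ _ nc base c) = f c :=
  LP.lift_γ _ _ _ _ c

theorem range_liftC (h : IsRep mul one R) (hf : ∀ c, R (getD' g one c) (f c))
    (hc : homOK mul one g IV nc base = true) : (liftC h hf hc).range = genLt f nc :=
  LP.range_lift _ _ _ _

/-- elements for the codes of words `cw` in elements `x` with codes `xc`. -/
theorem isRep_colW {x : ℕ → G} {xc : List ℕ} (h : IsRep mul one R) (hx : ∀ c, R (getD' xc one c) (x c))
    (cw : List (List ℕ)) (c : ℕ) : R (getD' (mapL (wC mul one xc) cw) one c) (colW x cw c) := by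
  rw [colW, getD'_eq, getD'_eq, mapL_eq]
  rcases le_or_gt cw.length c with hc | hc
  · rw [List.getD_eq_default _ _ (by simpa using hc), List.getD_eq_default _ _ hc]; exact h.one
  · rw [List.getD_eq_getElem _ _ (by simpa using hc), List.getD_eq_getElem _ _ hc, List.getElem_map]
    exact isRep_wC h hx _

/-- choose elements for a list of codes. -/
theorem exists_of_forall_mem (h : IsRep mul one R) (hg : ∀ a ∈ g, ∃ x, R a x) :
    ∃ f : ℕ → G, ∀ c, R (getD' g one c) (f c) := by
  have : ∀ c, ∃ x, R (getD' g one c) x := by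
    intro c
    rcases getD'_mem_or g one c with h1 | h1
    · exact hg _ h1
    · rw [h1]; exact ⟨1, h.one⟩
  exact ⟨fun c => (this c).choose, fun c => (this c).choose_spec⟩

end

/-! ### the field with four elements -/

instance factGF4 : Fact (∀ r : ZMod 2, r ^ 2 ≠ 1 + 1 * r) := ⟨by decide⟩

/-- the field with four elements, `⟨a, b⟩ = a + b ω`, `ω² = 1 + ω`. -/
abbrev GF4 : Type := QuadraticAlgebra (ZMod 2) 1 1

instance fintypeGF4 : Fintype GF4 := Fintype.ofEquiv _ (QuadraticAlgebra.equivProd (1 : ZMod 2) 1).symm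

theorem card_GF4 : Fintype.card GF4 = 4 := by
  rw [Fintype.ofEquiv_card]; rfl

/-- the `n × n` matrix over `GF4` coded by `c = A + 2 ^ (n * n) * B` is `A + ω B`. -/
def toMat4 (n c : ℕ) : Matrix (Fin n) (Fin n) GF4 :=
  Matrix.of fun i j => ⟨ent (ZMod 2) n 1 c i j, ent (ZMod 2) n 1 (Nat.shiftRight c (Nat.mul n n)) i j⟩

/-- multiplication of packed matrices over `GF4`. -/
def mul4 (n a b : ℕ) : ℕ :=
  let a' := Nat.shiftRight a (Nat.mul n n)
  let b' := Nat.shiftRight b (Nat.mul n n)
  let p := mulSq2 n a b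
  Nat.xor (Nat.xor p (mulSq2 n a' b'))
    (Nat.shiftLeft (Nat.xor p (mulSq2 n (Nat.xor a a') (Nat.xor b b'))) (Nat.mul n n))

theorem ent2_xor (n a b i j : ℕ) :
    ent (ZMod 2) n 1 (a ^^^ b) i j = ent (ZMod 2) n 1 a i j + ent (ZMod 2) n 1 b i j := cast_fld_xor _ _ _

theorem fld_one_eq (x i : ℕ) : fld 1 x i = (x.testBit i).toNat := by
  rw [fld_def, one_mul, pow_one, Nat.shiftRight_eq_div_pow, Nat.toNat_testBit]

theorem ent2_mulSq2 {n : ℕ} (a b : ℕ) (i j : Fin n) :
    ent (ZMod 2) n 1 (mulSq2 n a b) i j = ∑ k : Fin n, ent (ZMod 2) n 1 a i k * ent (ZMod 2) n 1 b k j :=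
  congrFun (congrFun (toMat_mul2 (m := n) i.pos a b) i) j

theorem toMat4_mul4 (n a b : ℕ) : toMat4 n (mul4 n a b) = toMat4 n a * toMat4 n b := by
  ext i j
  all_goals
    have hn := i.pos
    have hij : n * i + j < n * n := by
      have : n * (i + 1) ≤ n * n := Nat.mul_le_mul_left _ i.2
      have := j.2
      rw [Nat.mul_add_one] at *; omega
  · have e1 : ∀ x, ent (ZMod 2) n 1 (x <<< (n * n)) i j = 0 := by
      intro x
      rw [ent, fld_one_eq, Nat.testBit_shiftLeft, decide_eq_false (by omega)]; simp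
    show ent (ZMod 2) n 1 ((_ ^^^ _) ^^^ (_ <<< (n * n))) i j = _
    rw [ent2_xor, ent2_xor, e1, add_zero, ent2_mulSq2, ent2_mulSq2, Matrix.mul_apply, ← Finset.sum_add_distrib]
    rw [show ∀ z : GF4, z.re = QuadraticAlgebra.reₗ (1 : ZMod 2) 1 z from fun _ => rfl, map_sum]
    refine Finset.sum_congr rfl fun k _ => ?_
    simp [toMat4]
  · have e1 : ∀ x y, ent (ZMod 2) n 1 (mulSq2 n x y >>> (n * n)) i j = 0 := by
      intro x y
      have : mulSq2 n x y < 2 ^ (n * n) := mul2_lt hn x y
      rw [Nat.shiftRight_eq_div_pow, Nat.div_eq_of_lt this, ent, fld_one_eq]; simp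
    show ent (ZMod 2) n 1 (((_ ^^^ _) ^^^ (_ <<< (n * n))) >>> (n * n)) i j = _
    rw [Nat.shiftRight_xor_distrib, Nat.shiftRight_xor_distrib, Nat.shiftLeft_shiftRight, ent2_xor, ent2_xor, e1, e1,
      add_zero, zero_add]
    show ent (ZMod 2) n 1 (_ ^^^ _) i j = _
    rw [ent2_xor, ent2_mulSq2, ent2_mulSq2, Matrix.mul_apply, ← Finset.sum_add_distrib]
    rw [show ∀ z : GF4, z.im = QuadraticAlgebra.imₗ (1 : ZMod 2) 1 z from fun _ => rfl, map_sum]
    refine Finset.sum_congr rfl fun k _ => ?_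
    show _ + ent (ZMod 2) n 1 (_ ^^^ _) i k * ent (ZMod 2) n 1 (_ ^^^ _) k j = _
    rw [ent2_xor, ent2_xor]
    simp only [toMat4, QuadraticAlgebra.imₗ_apply, QuadraticAlgebra.im_mul, Matrix.of_apply, one_mul]
    generalize ent (ZMod 2) n 1 a i k = x
    generalize ent (ZMod 2) n 1 b k j = y
    generalize ent (ZMod 2) n 1 (Nat.shiftRight a (Nat.mul n n)) i k = z
    generalize ent (ZMod 2) n 1 (Nat.shiftRight b (Nat.mul n n)) k j = w
    revert x y z w; decide

theorem toMat4_idCode (n : ℕ) : toMat4 n (idCode n 1) = 1 := by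
  have h1 := toMat_idCode (ZMod 2) (n := n) one_pos
  ext i j
  · have := congrFun (congrFun h1 i) j
    simp only [toMat, Matrix.of_apply] at this
    simp only [toMat4, Matrix.of_apply, this, Matrix.one_apply]
    split_ifs <;> rfl
  · show ent (ZMod 2) n 1 (idCode n 1 >>> (n * n)) i j = _
    have e := fld_shiftRight 1 (idCode n 1) (n * n) (n * i + j)
    rw [one_mul] at e
    rw [ent, e, fld_idCode one_pos, if_neg, Matrix.one_apply]
    · split_ifs <;> rfl
    · rintro ⟨h2, h3⟩
      have h4 := Nat.div_add_mod (n * n + (n * i + j)) (n + 1)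
      obtain ⟨m, rfl⟩ : ∃ m, n = m + 1 := ⟨n - 1, by have := i.pos; omega⟩
      have h5 : (m + 1 + 1) * (((m + 1) * (m + 1) + ((m + 1) * i + j)) / (m + 1 + 1)) ≤ (m + 1 + 1) * m :=
        Nat.mul_le_mul_left _ (by omega)
      nlinarith

/-- `c` codes the matrix `M` over `GF4`, indices numbered by `e`. -/
def R4 {ι : Type*} {n : ℕ} (e : ι ≃ Fin n) (c : ℕ) (M : Matrix ι ι GF4) : Prop := (toMat4 n c).submatrix e e = M

theorem isRep_R4 {ι : Type*} [Fintype ι] [DecidableEq ι] {n : ℕ} (e : ι ≃ Fin n) :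
    IsRep (mul4 n) (idCode n 1) (R4 e) where
  one := by rw [R4, toMat4_idCode, Matrix.submatrix_one_equiv]
  mul := by
    rintro a b _ _ rfl rfl
    rw [R4, toMat4_mul4, Matrix.submatrix_mul_equiv]
  uniq := by
    rintro a _ _ rfl rfl
    rfl

/-- the model of a submonoid that is a group (e.g. `Matrix.symplecticGroup`). -/
theorem isRep_submonoid {M : Type*} [Monoid M] {mul : ℕ → ℕ → ℕ} {one : ℕ} {R : ℕ → M → Prop}
    (h : IsRep mul one R) (S : Submonoid M) : IsRep mul one (fun c (x : S) => R c (x : M)) :=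
  h.comap S.subtype Subtype.val_injective

theorem isRep_subgroup {M : Type*} [Group M] {mul : ℕ → ℕ → ℕ} {one : ℕ} {R : ℕ → M → Prop}
    (h : IsRep mul one R) (S : Subgroup M) : IsRep mul one (fun c (x : S) => R c (x : M)) :=
  h.comap S.subtype Subtype.val_injective

end

end CL.CGT
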