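import Cfsg.Agent.Base

/-!
# Permutation networks on bit positions (kernel-friendly)

A *stage* `(d, m)` swaps the positions `p` and `p + d` whenever bit `p` of `m` is set.  A `Net` is a list of stages.
`Net.app` is the induced map on positions, `Net.pull` the induced map on bit sets (big naturals), evaluated by the
kernel with a handful of bignum operations per stage.
-/

namespace CL.CGT

noncomputable section

/-- kernel-fast `testBit`. -/
def tb (m p : ℕ) : Bool := Nat.beq (Nat.land (Nat.shiftRight m p) 1) 1

theorem tb_eq (m p : ℕ) : tb m p = m.testBit p := by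
  unfold tb Nat.testBit
  have h1 : Nat.land (Nat.shiftRight m p) 1 = (m >>> p) % 2 := Nat.and_one_is_mod _
  have h2 : (1 &&& m >>> p) = (m >>> p) % 2 := Nat.one_and_eq_mod_two _
  rw [h1, h2]
  rcases Nat.mod_two_eq_zero_or_one (m >>> p) with h | h <;> rw [h] <;> rfl

/-- kernel-fast conjunction. -/
def band (a b : Bool) : Bool := @Bool.rec (fun _ => Bool) false b a

@[simp] theorem band_eq_true {a b : Bool} : band a b = true ↔ a = true ∧ b = true := by
  cases a <;> cases b <;> simp [band]

/-- kernel-fast conditional. -/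
def cnd {α : Type} (c : Bool) (x y : α) : α := @Bool.rec (fun _ => α) y x c

@[simp] theorem cnd_true {α : Type} (x y : α) : cnd true x y = x := rfl
@[simp] theorem cnd_false {α : Type} (x y : α) : cnd false x y = y := rfl

theorem cnd_eq_ite {α : Type} (c : Bool) (x y : α) : cnd c x y = if c = true then x else y := by
  cases c <;> simp

theorem beq_iff {a b : ℕ} : Nat.beq a b = true ↔ a = b := Nat.beq_eq ▸ Iff.rfl
theorem ble_iff {a b : ℕ} : Nat.ble a b = true ↔ a ≤ b := Nat.ble_eq ▸ Iff.rfl
theorem blt_iff {a b : ℕ} : Nat.ble (Nat.succ a) b = true ↔ a < b := Nat.ble_eq ▸ Iff.rfl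

/-- one stage acting on a bit set. -/
def stg (d m f : ℕ) : ℕ :=
  let t := Nat.land (Nat.xor (Nat.shiftRight f d) f) m
  Nat.xor (Nat.xor f t) (Nat.shiftLeft t d)

/-- one stage acting on a position. -/
def sw (d m p : ℕ) : ℕ :=
  cnd (tb m p) (Nat.add p d) (cnd (band (Nat.ble d p) (tb m (Nat.sub p d))) (Nat.sub p d) p)

theorem sw_def (d m p : ℕ) :
    sw d m p = if m.testBit p then p + d else if d ≤ p ∧ m.testBit (p - d) then p - d else p := by
  unfold sw
  simp only [cnd_eq_ite, band_eq_true, tb_eq, ble_iff, Nat.add_eq, Nat.sub_eq]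

/-- validity of a stage below the bound `B`. -/
def stgOK (B d m : ℕ) : Bool :=
  band (Nat.beq (Nat.land m (Nat.shiftLeft m d)) 0) (Nat.beq (Nat.shiftRight (Nat.shiftLeft m d) B) 0)

theorem stgOK_disj {B d m : ℕ} (h : stgOK B d m = true) (p : ℕ) (hp : m.testBit p = true) :
    m.testBit (p + d) = false := by
  simp only [stgOK, band_eq_true, beq_iff] at h
  have h1 : (m &&& (m <<< d)).testBit (p + d) = false := by
    have : m &&& (m <<< d) = 0 := h.1
    rw [this]; simp
  rw [Nat.testBit_and, Nat.testBit_shiftLeft] at h1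
  simpa [hp] using h1

theorem stgOK_lt {B d m : ℕ} (h : stgOK B d m = true) (p : ℕ) (hp : m.testBit p = true) :
    p + d < B := by
  simp only [stgOK, band_eq_true, beq_iff] at h
  by_contra hlt
  have h2 : ((m <<< d) >>> B).testBit (p + d - B) = false := by
    have : (m <<< d) >>> B = 0 := h.2
    rw [this]; simp
  rw [Nat.testBit_shiftRight, Nat.testBit_shiftLeft] at h2
  have e : B + (p + d - B) = p + d := by omega
  rw [e] at h2
  simp [hp] at h2

theorem sw_sw {B d m : ℕ} (h : stgOK B d m = true) (p : ℕ) : sw d m (sw d m p) = p := by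
  rw [sw_def d m p]
  by_cases h1 : m.testBit p = true
  · rw [if_pos h1, sw_def, stgOK_disj h p h1]
    simp [h1]
  · rw [if_neg h1]
    by_cases h2 : d ≤ p ∧ m.testBit (p - d) = true
    · rw [if_pos h2, sw_def, if_pos h2.2]; omega
    · rw [if_neg h2, sw_def, if_neg h1, if_neg h2]

theorem sw_of_le {B d m : ℕ} (h : stgOK B d m = true) {p : ℕ} (hp : B ≤ p) : sw d m p = p := by
  rw [sw_def]
  by_cases h1 : m.testBit p = true
  · have := stgOK_lt h p h1; omega
  · rw [if_neg h1]
    by_cases h2 : d ≤ p ∧ m.testBit (p - d) = true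
    · have := stgOK_lt h _ h2.2; omega
    · rw [if_neg h2]

theorem sw_lt {B d m : ℕ} (h : stgOK B d m = true) {p : ℕ} (hp : p < B) : sw d m p < B := by
  rw [sw_def]
  by_cases h1 : m.testBit p = true
  · rw [if_pos h1]; exact stgOK_lt h p h1
  · rw [if_neg h1]
    split_ifs <;> omega

theorem testBit_stg {B d m : ℕ} (h : stgOK B d m = true) (f p : ℕ) :
    (stg d m f).testBit p = f.testBit (sw d m p) := by
  have e : stg d m f = (f ^^^ (((f >>> d) ^^^ f) &&& m)) ^^^ ((((f >>> d) ^^^ f) &&& m) <<< d) := rfl
  rw [e, sw_def]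
  simp only [Nat.testBit_xor, Nat.testBit_and, Nat.testBit_shiftLeft, Nat.testBit_shiftRight]
  by_cases h1 : m.testBit p = true
  · rw [if_pos h1, h1]
    have h3 : ¬ (d ≤ p ∧ m.testBit (p - d) = true) := by
      rintro ⟨h4, h5⟩
      have := stgOK_disj h _ h5
      rw [Nat.sub_add_cancel h4, h1] at this
      exact absurd this (by simp)
    have h4 : (decide (p ≥ d) && ((f.testBit (d + (p - d)) ^^ f.testBit (p - d)) && m.testBit (p - d)))
        = false := by
      by_cases h5 : d ≤ p
      · have : m.testBit (p - d) = false := by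
          by_contra h6; exact h3 ⟨h5, by simpa using h6⟩
        simp [this]
      · simp [h5]
    rw [h4, Nat.add_comm d p]
    cases f.testBit p <;> cases f.testBit (p + d) <;> rfl
  · rw [if_neg h1]
    have h1' : m.testBit p = false := by simpa using h1
    rw [h1']
    by_cases h2 : d ≤ p ∧ m.testBit (p - d) = true
    · rw [if_pos h2, h2.2]
      have e2 : d + (p - d) = p := by omega
      rw [e2]
      have : decide (p ≥ d) = true := by simpa using h2.1
      rw [this]
      cases f.testBit p <;> cases f.testBit (p - d) <;> simp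
    · rw [if_neg h2]
      have h4 : (decide (p ≥ d) && ((f.testBit (d + (p - d)) ^^ f.testBit (p - d)) && m.testBit (p - d)))
          = false := by
        by_cases h5 : d ≤ p
        · have : m.testBit (p - d) = false := by
            by_contra h6; exact h2 ⟨h5, by simpa using h6⟩
          simp [this]
        · simp [h5]
      rw [h4]; simp

/-- a list of stages. -/
inductive Net : Type
  | nil : Net
  | cons (d m : ℕ) (tl : Net) : Net

namespace Net

/-- action on positions. -/
def app (n : Net) (p : ℕ) : ℕ :=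
  @Net.rec (fun _ => ℕ) p (fun d m _ ih => sw d m ih) n

/-- action on bit sets: `(n.pull f).testBit p = f.testBit (n.app p)`. -/
def pull (n : Net) : ℕ → ℕ :=
  @Net.rec (fun _ => ℕ → ℕ) (fun f => f) (fun d m _ ih f => ih (stg d m f)) n

/-- validity below the bound `B`. -/
def ok (B : ℕ) (n : Net) : Bool :=
  @Net.rec (fun _ => Bool) true (fun d m _ ih => band (stgOK B d m) ih) n

/-- `revApp n acc` is `reverse n ++ acc`. -/
def revApp (n : Net) : Net → Net :=
  @Net.rec (fun _ => Net → Net) (fun acc => acc) (fun d m _ ih acc => ih (Net.cons d m acc)) n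

/-- the reversed network (the inverse permutation). -/
def rev (n : Net) : Net := n.revApp Net.nil

/-- concatenation; `(n.append k).app p = n.app (k.app p)`. -/
def append (n k : Net) : Net :=
  @Net.rec (fun _ => Net) k (fun d m _ ih => Net.cons d m ih) n

@[simp] theorem app_nil (p : ℕ) : Net.nil.app p = p := rfl
@[simp] theorem app_cons (d m : ℕ) (tl : Net) (p : ℕ) : (Net.cons d m tl).app p = sw d m (tl.app p) := rfl
@[simp] theorem pull_nil (f : ℕ) : Net.nil.pull f = f := rfl
@[simp] theorem pull_cons (d m : ℕ) (tl : Net) (f : ℕ) : (Net.cons d m tl).pull f = tl.pull (stg d m f) := rfl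
@[simp] theorem ok_nil (B : ℕ) : Net.nil.ok B = true := rfl
theorem ok_cons (B d m : ℕ) (tl : Net) :
    (Net.cons d m tl).ok B = true ↔ stgOK B d m = true ∧ tl.ok B = true := band_eq_true
theorem revApp_nil (acc : Net) : Net.nil.revApp acc = acc := rfl
theorem revApp_cons (d m : ℕ) (tl acc : Net) :
    (Net.cons d m tl).revApp acc = tl.revApp (Net.cons d m acc) := rfl
theorem append_nil (k : Net) : Net.nil.append k = k := rfl
theorem append_cons (d m : ℕ) (tl k : Net) :
    (Net.cons d m tl).append k = Net.cons d m (tl.append k) := rfl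

theorem app_append (n k : Net) (p : ℕ) : (n.append k).app p = n.app (k.app p) := by
  induction n with
  | nil => rfl
  | cons d m tl ih => rw [append_cons, app_cons, app_cons, ih]

theorem ok_append {B : ℕ} {n k : Net} (hn : n.ok B = true) (hk : k.ok B = true) :
    (n.append k).ok B = true := by
  induction n with
  | nil => exact hk
  | cons d m tl ih =>
    rw [append_cons, ok_cons]; rw [ok_cons] at hn
    exact ⟨hn.1, ih hn.2⟩

theorem testBit_pull {B : ℕ} {n : Net} (h : n.ok B = true) (f p : ℕ) :
    (n.pull f).testBit p = f.testBit (n.app p) := by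
  induction n generalizing f with
  | nil => rfl
  | cons d m tl ih =>
    rw [ok_cons] at h
    rw [pull_cons, ih h.2, testBit_stg h.1, app_cons]

theorem app_of_le {B : ℕ} {n : Net} (h : n.ok B = true) {p : ℕ} (hp : B ≤ p) : n.app p = p := by
  induction n with
  | nil => rfl
  | cons d m tl ih =>
    rw [ok_cons] at h
    rw [app_cons, ih h.2, sw_of_le h.1 hp]

theorem app_lt {B : ℕ} {n : Net} (h : n.ok B = true) {p : ℕ} (hp : p < B) : n.app p < B := by
  induction n with
  | nil => exact hp
  | cons d m tl ih =>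
    rw [ok_cons] at h
    rw [app_cons]; exact sw_lt h.1 (ih h.2)

theorem ok_revApp {B : ℕ} {n acc : Net} (hn : n.ok B = true) (ha : acc.ok B = true) :
    (n.revApp acc).ok B = true := by
  induction n generalizing acc with
  | nil => exact ha
  | cons d m tl ih =>
    rw [ok_cons] at hn
    rw [revApp_cons]; exact ih hn.2 ((ok_cons _ _ _ _).2 ⟨hn.1, ha⟩)

theorem ok_rev {B : ℕ} {n : Net} (hn : n.ok B = true) : n.rev.ok B = true := ok_revApp hn rfl

theorem app_app_revApp {B : ℕ} {n : Net} (hn : n.ok B = true) (acc : Net) (p : ℕ) :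
    n.app ((n.revApp acc).app p) = acc.app p := by
  induction n generalizing acc with
  | nil => rfl
  | cons d m tl ih =>
    rw [ok_cons] at hn
    rw [revApp_cons, app_cons, ih hn.2, app_cons, sw_sw hn.1]

theorem app_rev {B : ℕ} {n : Net} (hn : n.ok B = true) (p : ℕ) : n.app (n.rev.app p) = p :=
  app_app_revApp hn Net.nil p

theorem app_injective {B : ℕ} {n : Net} (hn : n.ok B = true) : Function.Injective n.app := by
  induction n with
  | nil => exact fun _ _ h => h
  | cons d m tl ih =>
    rw [ok_cons] at hn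
    intro p q h
    rw [app_cons, app_cons] at h
    apply ih hn.2
    rw [← sw_sw hn.1 (tl.app p), h, sw_sw hn.1]

theorem rev_app {B : ℕ} {n : Net} (hn : n.ok B = true) (p : ℕ) : n.rev.app (n.app p) = p :=
  app_injective hn (app_rev hn _)

theorem app_bijective {B : ℕ} {n : Net} (hn : n.ok B = true) : Function.Bijective n.app :=
  ⟨app_injective hn, fun p => ⟨_, app_rev hn p⟩⟩

open Classical in
/-- the permutation of `ℕ` defined by a (valid) network. -/
def perm (n : Net) : Equiv.Perm ℕ :=
  if h : Function.Bijective n.app then Equiv.ofBijective _ h else 1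

theorem perm_apply {B : ℕ} {n : Net} (hn : n.ok B = true) (p : ℕ) : n.perm p = n.app p := by
  unfold perm; rw [dif_pos (app_bijective hn)]; rfl

theorem perm_nil : Net.nil.perm = 1 := by
  ext p; rw [perm_apply (B := 0) rfl]; rfl

theorem perm_rev {B : ℕ} {n : Net} (hn : n.ok B = true) : n.rev.perm = n.perm⁻¹ := by
  rw [eq_inv_iff_mul_eq_one]
  ext p
  rw [Equiv.Perm.mul_apply, perm_apply hn, perm_apply (ok_rev hn), rev_app hn]; rfl

theorem perm_append {B : ℕ} {n k : Net} (hn : n.ok B = true) (hk : k.ok B = true) :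
    (n.append k).perm = n.perm * k.perm := by
  ext p
  rw [Equiv.Perm.mul_apply, perm_apply hn, perm_apply hk, perm_apply (ok_append hn hk), app_append]

end Net

/-! ### bit sets -/

/-- the set `{0, …, n-1}`. -/
def ones (n : ℕ) : ℕ := Nat.sub (Nat.shiftLeft 1 n) 1

theorem testBit_ones (n p : ℕ) : (ones n).testBit p = decide (p < n) := by
  have : ones n = 2 ^ n - 1 := by
    unfold ones; show 1 <<< n - 1 = _; rw [Nat.one_shiftLeft]
  rw [this, Nat.testBit_two_pow_sub_one]

/-- the singleton `{p}`. -/
def sing (p : ℕ) : ℕ := Nat.shiftLeft 1 p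

theorem testBit_sing (p q : ℕ) : (sing p).testBit q = decide (q = p) := by
  have : sing p = 2 ^ p := by unfold sing; show 1 <<< p = _; rw [Nat.one_shiftLeft]
  rw [this, Nat.testBit_two_pow]; simp [eq_comm]

/-- inclusion of bit sets. -/
def sub (a b : ℕ) : Bool := Nat.beq (Nat.land a b) a

theorem sub_spec {a b : ℕ} (h : sub a b = true) {p : ℕ} (hp : a.testBit p = true) : b.testBit p = true := by
  have e : a &&& b = a := beq_iff.1 h
  rw [← e, Nat.testBit_and] at hp
  simp only [Bool.and_eq_true] at hp
  exact hp.2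

theorem testBit_land (a b p : ℕ) : (Nat.land a b).testBit p = (a.testBit p && b.testBit p) :=
  Nat.testBit_and a b p
theorem testBit_lor (a b p : ℕ) : (Nat.lor a b).testBit p = (a.testBit p || b.testBit p) :=
  Nat.testBit_or a b p
theorem testBit_xor' (a b p : ℕ) : (Nat.xor a b).testBit p = (a.testBit p ^^ b.testBit p) :=
  Nat.testBit_xor a b p
theorem testBit_shl (a n p : ℕ) :
    (Nat.shiftLeft a n).testBit p = (decide (p ≥ n) && a.testBit (p - n)) := Nat.testBit_shiftLeft a
theorem testBit_shr (a n p : ℕ) : (Nat.shiftRight a n).testBit p = a.testBit (n + p) :=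
  Nat.testBit_shiftRight a

/-- the `i`-th digit of `x` in base `2 ^ w`. -/
def dig (x w i : ℕ) : ℕ := Nat.land (Nat.shiftRight x (Nat.mul w i)) (ones w)

theorem testBit_dig (x w i p : ℕ) : (dig x w i).testBit p = (x.testBit (w * i + p) && decide (p < w)) := by
  unfold dig
  rw [testBit_land, testBit_shr, testBit_ones]; rfl

/-- `rep n k`: the bit set `{0, k, 2k, …, (2 ^ n - 1) k}`. -/
def rep (n k : ℕ) : ℕ :=
  @Nat.rec (fun _ => ℕ) 1 (fun i ih => Nat.lor ih (Nat.shiftLeft ih (Nat.shiftLeft k i))) n

theorem rep_zero (k : ℕ) : rep 0 k = 1 := rfl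
theorem rep_succ (n k : ℕ) : rep (n + 1) k = rep n k ||| (rep n k <<< (k <<< n)) := rfl

theorem testBit_rep {k : ℕ} (hk : 0 < k) (n p : ℕ) :
    (rep n k).testBit p = decide (p % k = 0 ∧ p / k < 2 ^ n) := by
  induction n generalizing p with
  | zero =>
    rw [rep_zero]
    have : (1 : ℕ) = 2 ^ 0 := rfl
    rw [this, Nat.testBit_two_pow]
    apply decide_eq_decide.2
    constructor
    · rintro rfl; simp
    · rintro ⟨h1, h2⟩
      have h3 : p / k = 0 := by simpa using h2
      have := Nat.div_add_mod p k
      rw [h1, h3] at this; omega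
  | succ n ih =>
    rw [rep_succ, Nat.testBit_or, Nat.testBit_shiftLeft, ih, ih, Nat.shiftLeft_eq]
    rw [← Bool.decide_and, ← Bool.decide_or]
    apply decide_eq_decide.2
    by_cases hp : p ≥ k * 2 ^ n
    · obtain ⟨q, rfl⟩ := Nat.exists_eq_add_of_le hp
      rw [Nat.add_sub_cancel_left, Nat.mul_add_mod, Nat.mul_add_div hk, pow_succ]
      constructor
      · rintro (⟨h1, h2⟩ | ⟨-, h1, h2⟩)
        · exact ⟨h1, by omega⟩
        · exact ⟨h1, by omega⟩
      · rintro ⟨h1, h2⟩
        exact Or.inr ⟨by omega, h1, by omega⟩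
    · have h3 : p / k < 2 ^ n := by
        rw [Nat.div_lt_iff_lt_mul hk]; rw [Nat.mul_comm]; omega
      constructor
      · rintro (⟨h1, h2⟩ | ⟨h0, -⟩)
        · exact ⟨h1, by rw [pow_succ]; omega⟩
        · exact absurd h0 hp
      · rintro ⟨h1, -⟩
        exact Or.inl ⟨h1, h3⟩

/-- the label plane `j` below `2 ^ w`: the set of `p < 2 ^ w` whose bit `j` is set (for `j < w`). -/
def plane (w j : ℕ) : ℕ :=
  @Nat.rec (fun _ => ℕ) 0
    (fun i ih => cnd (Nat.beq i j) (Nat.shiftLeft (ones (Nat.shiftLeft 1 i)) (Nat.shiftLeft 1 i))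
      (Nat.lor ih (Nat.shiftLeft ih (Nat.shiftLeft 1 i)))) w

theorem plane_zero (j : ℕ) : plane 0 j = 0 := rfl
theorem plane_succ (w j : ℕ) : plane (w + 1) j =
    cnd (Nat.beq w j) (ones (1 <<< w) <<< (1 <<< w)) (plane w j ||| (plane w j <<< (1 <<< w))) := rfl

theorem testBit_plane (w j p : ℕ) :
    (plane w j).testBit p = (decide (p < 2 ^ w) && p.testBit j) := by
  induction w generalizing p with
  | zero =>
    rw [plane_zero]
    by_cases hp : p = 0
    · subst hp; simp
    · have : ¬ p < 2 ^ 0 := by simp; omega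
      rw [decide_eq_false this]; simp
  | succ w ih =>
    rw [plane_succ, cnd_eq_ite, Nat.one_shiftLeft]
    have hw : 0 < 2 ^ w := Nat.two_pow_pos w
    by_cases hj : w = j
    · subst hj
      rw [if_pos (beq_iff.2 rfl), Nat.testBit_shiftLeft, testBit_ones]
      by_cases h1 : p < 2 ^ w
      · rw [Nat.testBit_lt_two_pow h1]; simp; omega
      · by_cases h2 : p < 2 ^ (w + 1)
        · have : p.testBit w = true := by
            obtain ⟨q, rfl⟩ := Nat.exists_eq_add_of_le (not_lt.1 h1)
            have hq : q < 2 ^ w := by rw [pow_succ] at h2; omega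
            rw [Nat.testBit_two_pow_add_eq, Nat.testBit_lt_two_pow hq]; rfl
          rw [this, decide_eq_true h2, decide_eq_true (show p ≥ 2 ^ w by omega),
            decide_eq_true (show p - 2 ^ w < 2 ^ w by rw [pow_succ] at h2; omega)]
        · rw [decide_eq_false h2,
            decide_eq_false (show ¬ p - 2 ^ w < 2 ^ w by rw [pow_succ] at h2; omega)]; simp
    · rw [if_neg (fun h => hj (beq_iff.1 h)), Nat.testBit_or, Nat.testBit_shiftLeft, ih, ih]
      by_cases h1 : p < 2 ^ w
      · have h2 : p < 2 ^ (w + 1) := by rw [pow_succ]; omega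
        have h3 : ¬ p ≥ 2 ^ w := by omega
        simp [h1, h2, h3]
      · obtain ⟨q, rfl⟩ := Nat.exists_eq_add_of_le (not_lt.1 h1)
        rw [Nat.add_sub_cancel_left]
        by_cases h2 : q < 2 ^ w
        · have h3 : 2 ^ w + q < 2 ^ (w + 1) := by rw [pow_succ]; omega
          have h4 : (2 ^ w + q).testBit j = q.testBit j := by
            rcases lt_or_gt_of_ne hj with h | h
            · have h5 : 2 ^ (w + 1) ≤ 2 ^ j := Nat.pow_le_pow_right (by norm_num) h
              rw [Nat.testBit_lt_two_pow (lt_of_lt_of_le h3 h5),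
                Nat.testBit_lt_two_pow (by omega)]
            · exact Nat.testBit_two_pow_add_gt h q
          simp [h2, h3, h4]
        · have h3 : ¬ 2 ^ w + q < 2 ^ (w + 1) := by rw [pow_succ]; omega
          simp [h2, h3]

/-- `allLt n f`: `f i` for all `i < n` (linear recursion; for small `n`). -/
def allLt (n : ℕ) (f : ℕ → Bool) : Bool :=
  @Nat.rec (fun _ => Bool) true (fun i ih => band (f i) ih) n

theorem allLt_spec {n : ℕ} {f : ℕ → Bool} (h : allLt n f = true) : ∀ i < n, f i = true := by
  induction n with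
  | zero => intro i hi; omega
  | succ n ih =>
    have h' : band (f n) (allLt n f) = true := h
    rw [band_eq_true] at h'
    intro i hi
    rcases Nat.lt_succ_iff_lt_or_eq.1 hi with h1 | rfl
    · exact ih h'.2 i h1
    · exact h'.1

/-- `allL l f`: `f x` for all `x ∈ l`. -/
def allL {α : Type} (l : List α) (f : α → Bool) : Bool :=
  @List.rec α (fun _ => Bool) true (fun x _ ih => band (f x) ih) l

theorem allL_spec {α : Type} {l : List α} {f : α → Bool} (h : allL l f = true) : ∀ x ∈ l, f x = true := by
  induction l with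
  | nil => intro x hx; simp at hx
  | cons a l ih =>
    have h' : band (f a) (allL l f) = true := h
    rw [band_eq_true] at h'
    intro x hx
    rcases List.mem_cons.1 hx with rfl | h1
    · exact h'.1
    · exact ih h'.2 x h1

/-- list lookup with default. -/
def getD' {α : Type} (l : List α) (d : α) : ℕ → α :=
  @List.rec α (fun _ => ℕ → α) (fun _ => d)
    (fun x _ ih i => @Nat.rec (fun _ => α) x (fun j _ => ih j) i) l

theorem getD'_eq {α : Type} (l : List α) (d : α) (i : ℕ) : getD' l d i = l.getD i d := by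
  induction l generalizing i with
  | nil => simp [getD']
  | cons a l ih =>
    cases i with
    | zero => rfl
    | succ j => exact (ih j).trans (by simp)

/-! ### counting bits -/

/-- the set of positions of the bits of `f`. -/
def bset (f : ℕ) : Set ℕ := {p | f.testBit p = true}

@[simp] theorem mem_bset {f p : ℕ} : p ∈ bset f ↔ f.testBit p = true := Iff.rfl

theorem bset_finite (f : ℕ) : (bset f).Finite := by
  refine (Set.finite_lt_nat f).subset fun p hp => ?_
  have := Nat.ge_two_pow_of_testBit hp
  exact lt_of_lt_of_le Nat.lt_two_pow_self this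

theorem bset_ones (n : ℕ) : bset (ones n) = Set.Iio n := by
  ext p; simp [testBit_ones]

theorem ncard_bset_ones (n : ℕ) : (bset (ones n)).ncard = n := by
  rw [bset_ones]; simp

theorem mod_two_pow_eq_sum (y M : ℕ) :
    y % 2 ^ M = ∑ p ∈ (Finset.range M).filter (fun p => y.testBit p = true), 2 ^ p := by
  induction M with
  | zero => simp [Nat.mod_one]
  | succ M ih =>
    rw [Nat.mod_pow_succ, ih, Finset.range_add_one, Finset.filter_insert, Nat.testBit_eq_decide_div_mod_eq]
    rcases Nat.mod_two_eq_zero_or_one (y / 2 ^ M) with h | h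
    · simp [h]
    · rw [h]
      simp only [decide_true, if_true]
      rw [Finset.sum_insert (by simp)]; omega

/-- partial sums used by `popc`. -/
def popS (k n f r : ℕ) : ℕ :=
  @Nat.rec (fun _ => ℕ) 0 (fun i ih => Nat.add ih (Nat.land (Nat.shiftRight f i) (rep n k))) r

/-- number of bits of `f`, valid when `popOK k n f`. -/
def popc (k n f : ℕ) : ℕ := Nat.mod (popS k n f k) (ones k)

/-- side conditions for `popc`. -/
def popOK (k n f : ℕ) : Bool :=
  band (Nat.beq (Nat.shiftRight f (Nat.shiftLeft k n)) 0)
    (Nat.ble (Nat.succ (Nat.shiftLeft k n)) (ones k))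

theorem popS_eq (k n f r : ℕ) : popS k n f r = ∑ i ∈ Finset.range r, ((f >>> i) &&& rep n k) := by
  induction r with
  | zero => rfl
  | succ r ih => rw [Finset.sum_range_succ, ← ih]; rfl

theorem ncard_bset_eq_popc {k n f : ℕ} (h : popOK k n f = true) : (bset f).ncard = popc k n f := by
  simp only [popOK, band_eq_true, beq_iff, blt_iff] at h
  obtain ⟨h1, h2⟩ := h
  have eM : Nat.shiftLeft k n = k * 2 ^ n := Nat.shiftLeft_eq k n
  rw [eM] at h1 h2
  set M := k * 2 ^ n with hM
  have eo : ones k = 2 ^ k - 1 := by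
    unfold ones; show 1 <<< k - 1 = _; rw [Nat.one_shiftLeft]
  have hk : 0 < k := by
    rcases Nat.eq_zero_or_pos k with rfl | hk
    · simp [eo] at h2
    · exact hk
  have hf : ∀ p, f.testBit p = true → p < M := by
    intro p hp
    by_contra hlt
    have h3 : (f >>> M).testBit (p - M) = false := by
      have : f >>> M = 0 := h1
      rw [this]; simp
    rw [Nat.testBit_shiftRight, show M + (p - M) = p by omega, hp] at h3
    exact absurd h3 (by simp)
  have e1 : bset f = ↑((Finset.range M).filter (fun p => f.testBit p = true)) := by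
    ext p; simp only [mem_bset, Finset.coe_filter, Finset.mem_range, Set.mem_ofPred_eq]
    exact ⟨fun hp => ⟨hf p hp, hp⟩, fun hp => hp.2⟩
  rw [e1, Set.ncard_coe_finset]
  set A := (Finset.range M).filter (fun p => f.testBit p = true) with hA
  have hAle : A.card ≤ M := by
    simpa using Finset.card_filter_le (Finset.range M) (fun p => f.testBit p = true)
  have e2 : A.card = ∑ r ∈ Finset.range k, (A.filter (fun q => q % k = r)).card :=
    Finset.card_eq_sum_card_fiberwise (fun q _ => by simpa using Nat.mod_lt q hk)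
  have e3 : ∀ r ∈ Finset.range k,
      ((f >>> r) &&& rep n k) ≡ (A.filter (fun q => q % k = r)).card [MOD 2 ^ k - 1] := by
    intro r hr
    rw [Finset.mem_range] at hr
    set y := (f >>> r) &&& rep n k with hy
    have hyb : ∀ p, y.testBit p = true ↔ f.testBit (r + p) = true ∧ p % k = 0 ∧ p / k < 2 ^ n := by
      intro p
      rw [hy, Nat.testBit_and, Nat.testBit_shiftRight, testBit_rep hk]; simp
    have hylt : y < 2 ^ M := by
      apply Nat.lt_pow_two_of_testBit
      intro p hp
      by_contra h4
      have h5 := ((hyb p).1 (by simpa using h4)).2.2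
      rw [Nat.div_lt_iff_lt_mul hk, Nat.mul_comm] at h5; omega
    have e4 := mod_two_pow_eq_sum y M
    rw [Nat.mod_eq_of_lt hylt] at e4
    have e5 : ((Finset.range M).filter (fun p => y.testBit p = true)).card =
        (A.filter (fun q => q % k = r)).card := by
      apply Finset.card_bij (fun p _ => r + p)
      · intro p hp
        simp only [Finset.mem_filter, Finset.mem_range, hA] at hp ⊢
        obtain ⟨h6, h7, h8⟩ := (hyb p).1 hp.2
        refine ⟨⟨hf _ h6, h6⟩, ?_⟩
        rw [Nat.add_mod, h7, Nat.add_zero, Nat.mod_mod, Nat.mod_eq_of_lt hr]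
      · intro p _ q _ hpq; omega
      · intro q hq
        simp only [Finset.mem_filter, Finset.mem_range, hA] at hq
        obtain ⟨⟨h6, h7⟩, h8⟩ := hq
        have h9 := Nat.div_add_mod q k
        have h10 : q - r = k * (q / k) := by omega
        refine ⟨q - r, ?_, by omega⟩
        simp only [Finset.mem_filter, Finset.mem_range]
        refine ⟨by omega, (hyb _).2 ⟨by rw [show r + (q - r) = q by omega]; exact h7, ?_, ?_⟩⟩
        · rw [h10]; simp
        · rw [h10, Nat.mul_div_cancel_left _ hk, Nat.div_lt_iff_lt_mul hk, Nat.mul_comm]; exact h6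
    rw [← e5, Finset.card_eq_sum_ones]
    conv_lhs => rw [e4]
    apply Nat.ModEq.sum
    intro p hp
    simp only [Finset.mem_filter] at hp
    obtain ⟨i, rfl⟩ := Nat.dvd_of_mod_eq_zero ((hyb p).1 hp.2).2.1
    rw [pow_mul]
    have : 2 ^ k ≡ 1 [MOD 2 ^ k - 1] := by
      have h0 : 1 ≤ 2 ^ k := Nat.one_le_two_pow
      exact ((Nat.modEq_iff_dvd' h0).2 dvd_rfl).symm
    simpa using this.pow i
  have e6 : popS k n f k ≡ A.card [MOD 2 ^ k - 1] := by
    rw [popS_eq, e2]; exact Nat.ModEq.sum e3
  unfold popc
  show _ = popS k n f k % ones k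
  rw [eo, e6, Nat.mod_eq_of_lt (by omega)]

/-- check that `f` has exactly `c` bits. -/
def cardIs (k n f c : ℕ) : Bool := band (popOK k n f) (Nat.beq (popc k n f) c)

theorem cardIs_spec {k n f c : ℕ} (h : cardIs k n f c = true) : (bset f).ncard = c := by
  simp only [cardIs, band_eq_true, beq_iff] at h
  rw [ncard_bset_eq_popc h.1, h.2]

end

end CL.CGT
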