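import Cfsg.Agent.CGT.TC
import Cfsg.Agent.Auto.ACL_CGT_genLt_665092
import Cfsg.Agent.Auto.ACL_CGT_net_d1b403

/-!
# Setting up certified coset enumerations and permutation representations of presented groups
-/

namespace CL.CGT

noncomputable section

/-! ### kernel-fast list functions -/

def appL {α : Type} (l k : List α) : List α := @List.rec α (fun _ => List α) k (fun c _ ih => c :: ih) l

@[simp] theorem appL_eq {α : Type} (l k : List α) : appL l k = l ++ k := by
  induction l with
  | nil => rfl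
  | cons c l ih => exact congrArg (List.cons c) ih

def mapL {α β : Type} (f : α → β) (l : List α) : List β :=
  @List.rec α (fun _ => List β) [] (fun c _ ih => f c :: ih) l

@[simp] theorem mapL_eq {α β : Type} (f : α → β) (l : List α) : mapL f l = l.map f := by
  induction l with
  | nil => rfl
  | cons c l ih => exact congrArg (List.cons (f c)) ih

def dropL {α : Type} (n : ℕ) : List α → List α :=
  @Nat.rec (fun _ => List α → List α) (fun l => l)
    (fun _ ih l => @List.rec α (fun _ => List α) [] (fun _ tl _ => ih tl) l) n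

@[simp] theorem dropL_eq {α : Type} (n : ℕ) (l : List α) : dropL n l = l.drop n := by
  induction n generalizing l with
  | zero => rfl
  | succ n ih => cases l with
    | nil => rfl
    | cons c l => exact ih l

def takeL {α : Type} (n : ℕ) : List α → List α :=
  @Nat.rec (fun _ => List α → List α) (fun _ => [])
    (fun _ ih l => @List.rec α (fun _ => List α) [] (fun c tl _ => c :: ih tl) l) n

@[simp] theorem takeL_eq {α : Type} (n : ℕ) (l : List α) : takeL n l = l.take n := by
  induction n generalizing l with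
  | zero => rfl
  | succ n ih => cases l with
    | nil => rfl
    | cons c l => exact congrArg (List.cons c) (ih l)

def beqL (l : List ℕ) : List ℕ → Bool :=
  @List.rec ℕ (fun _ => List ℕ → Bool) (fun k => @List.rec ℕ (fun _ => Bool) true (fun _ _ _ => false) k)
    (fun c _ ih k => @List.rec ℕ (fun _ => Bool) false (fun d tl _ => band (Nat.beq c d) (ih tl)) k) l

theorem beqL_spec {l k : List ℕ} (h : beqL l k = true) : l = k := by
  induction l generalizing k with
  | nil => cases k with
    | nil => rfl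
    | cons d k => exact absurd h (by simp [beqL])
  | cons c l ih => cases k with
    | nil => exact absurd h (by simp [beqL])
    | cons d k =>
      have h' : band (Nat.beq c d) (beqL l k) = true := h
      rw [band_eq_true, beq_iff] at h'
      rw [h'.1, ih h'.2]

/-- `allL2 l k f`: the lists have the same length and `f` holds for corresponding entries. -/
def allL2 {α β : Type} (f : α → β → Bool) (l : List α) : List β → Bool :=
  @List.rec α (fun _ => List β → Bool) (fun k => @List.rec β (fun _ => Bool) true (fun _ _ _ => false) k)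
    (fun c _ ih k => @List.rec β (fun _ => Bool) false (fun d tl _ => band (f c d) (ih tl)) k) l

theorem allL2_left {α β : Type} {f : α → β → Bool} {l : List α} {k : List β} (h : allL2 f l k = true) :
    ∀ x ∈ l, ∃ y ∈ k, f x y = true := by
  induction l generalizing k with
  | nil => simp
  | cons c l ih => cases k with
    | nil => exact absurd h (by simp [allL2])
    | cons d k =>
      have h' : band (f c d) (allL2 f l k) = true := h
      rw [band_eq_true] at h'
      intro x hx
      rcases List.mem_cons.1 hx with rfl | hx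
      · exact ⟨d, List.mem_cons_self, h'.1⟩
      · obtain ⟨y, hy, e⟩ := ih h'.2 x hx
        exact ⟨y, List.mem_cons_of_mem _ hy, e⟩

/-- `l` repeated `n` times. -/
def pw (l : List ℕ) (n : ℕ) : List ℕ := @Nat.rec (fun _ => List ℕ) [] (fun _ ih => appL l ih) n

/-- substitute words for letters. -/
def flat (cw : List (List ℕ)) (l : List ℕ) : List ℕ :=
  @List.rec ℕ (fun _ => List ℕ) [] (fun c _ ih => appL (getD' cw [] c) ih) l

/-- free reduction. -/
def red (iv : ℕ → ℕ) (l : List ℕ) : List ℕ :=
  @List.rec ℕ (fun _ => List ℕ) []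
    (fun c _ ih => @List.rec ℕ (fun _ => List ℕ) [c]
      (fun d tl _ => cnd (Nat.beq d (iv c)) tl (c :: d :: tl)) ih) l

/-- inverse table: identity from `nc` on. -/
def ivT (IV nc c : ℕ) : ℕ := cnd (Nat.ble nc c) c (dig IV 8 c)

/-- columns given by words in other columns. -/
def colW {G : Type*} [Group G] (γ : ℕ → G) (cw : List (List ℕ)) (c : ℕ) : G := wval γ (getD' cw [] c)

/-- the relator `u v⁻¹` of an equation. -/
def joinE (iv : ℕ → ℕ) (e : List ℕ × List ℕ) : List ℕ := appL e.1 (revMap iv e.2 [])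

section
variable {G : Type*} [Group G] {γ : ℕ → G}

theorem wval_pw (l : List ℕ) (n : ℕ) : wval γ (pw l n) = wval γ l ^ n := by
  induction n with
  | zero => simp [pw]
  | succ n ih =>
    have e : pw l (n + 1) = appL l (pw l n) := rfl
    rw [e, appL_eq, wval_append, ih, pow_succ]

theorem wval_flat (cw : List (List ℕ)) (l : List ℕ) : wval γ (flat cw l) = wval (colW γ cw) l := by
  induction l with
  | nil => rfl
  | cons c l ih =>
    have e : flat cw (c :: l) = appL (getD' cw [] c) (flat cw l) := rfl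
    rw [e, appL_eq, wval_append, ih]; rfl

theorem wval_red {iv : ℕ → ℕ} (hiv : ∀ c, γ (iv c) = (γ c)⁻¹) (l : List ℕ) :
    wval γ (red iv l) = wval γ l := by
  induction l with
  | nil => rfl
  | cons c l ih =>
    have e : red iv (c :: l) = @List.rec ℕ (fun _ => List ℕ) [c]
      (fun d tl _ => cnd (Nat.beq d (iv c)) tl (c :: d :: tl)) (red iv l) := rfl
    rw [e, wval_cons, ← ih]
    cases red iv l with
    | nil => simp
    | cons d tl =>
      show wval γ (cnd _ _ _) = _
      rw [cnd_eq_ite]
      split_ifs with h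
      · rw [beq_iff.1 h]; simp [hiv]
      · rfl

theorem wval_revMap {iv : ℕ → ℕ} (hiv : ∀ c, γ (iv c) = (γ c)⁻¹) (l : List ℕ) :
    wval γ (revMap iv l []) = (wval γ l)⁻¹ := by
  rw [revMap_eq, List.append_nil, wval_reverse_map γ hiv]

theorem wval_joinE {iv : ℕ → ℕ} (hiv : ∀ c, γ (iv c) = (γ c)⁻¹) (e : List ℕ × List ℕ) :
    wval γ (joinE iv e) = (wval γ e.2)⁻¹ * wval γ e.1 := by
  rw [joinE, appL_eq, wval_append, wval_revMap hiv]

theorem colW_of_le {cw : List (List ℕ)} {c : ℕ} (hc : cw.length ≤ c) : colW γ cw c = 1 := by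
  rw [colW, getD'_eq, List.getD_eq_default _ _ hc]; rfl

theorem genLt_colW (cw : List (List ℕ)) (n : ℕ) : genLt (colW γ cw) n = gen γ (cw.take n) := by
  apply le_antisymm
  · rw [genLt, Subgroup.closure_le]
    rintro _ ⟨c, hc, rfl⟩
    rcases le_or_gt cw.length c with h | h
    · rw [colW_of_le h]; exact Subgroup.one_mem _
    · apply wval_mem_gen
      rw [getD'_eq, List.getD_eq_getElem _ _ h, List.mem_take_iff_getElem]
      exact ⟨c, by simpa [h] using hc, rfl⟩
  · rw [gen_le]
    intro w hw
    obtain ⟨c, hc, rfl⟩ := List.mem_take_iff_getElem.1 hw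
    have h1 : c < cw.length := by omega
    refine Subgroup.subset_closure ⟨c, by simp at hc ⊢; omega, ?_⟩
    rw [colW, getD'_eq, List.getD_eq_getElem _ _ h1]

end

theorem pm_of_le {ns : List Net} {c : ℕ} (hc : ns.length ≤ c) : pm ns c = 1 := by
  rw [pm, net, getD'_eq, List.getD_eq_default _ _ hc, Net.perm_nil]

/-- length of a list. -/
def lenL {α : Type} (l : List α) : ℕ := @List.rec α (fun _ => ℕ) 0 (fun _ _ ih => Nat.succ ih) l

@[simp] theorem lenL_eq {α : Type} (l : List α) : lenL l = l.length := by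
  induction l with
  | nil => rfl
  | cons c l ih => exact congrArg Nat.succ ih

/-! ### splitting the check of equations -/

/-- the planes `j, …, j + m - 1`. -/
def eqRange (ns : List Net) (B w : ℕ) (E : List (List ℕ × List ℕ)) (j m : ℕ) : Bool :=
  allLt m (fun i => eqPlane ns B w E (Nat.add j i))

theorem eqRange_cons {ns : List Net} {B w : ℕ} {E : List (List ℕ × List ℕ)} {j m j' : ℕ}
    (h : eqRange ns B w E j m = true) (hj : j + m = j')
    (ht : ∀ i, j' ≤ i → i < w → eqPlane ns B w E i = true) :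
    ∀ i, j ≤ i → i < w → eqPlane ns B w E i = true := by
  intro i h1 h2
  rcases le_or_gt j' i with h3 | h3
  · exact ht i h3 h2
  · have := allLt_spec h (i - j) (by omega)
    rwa [Nat.add_eq, show j + (i - j) = i by omega] at this

theorem eqRange_end {ns : List Net} {B w : ℕ} {E : List (List ℕ × List ℕ)} :
    ∀ i, w ≤ i → i < w → eqPlane ns B w E i = true := fun _ h1 h2 => by omega

theorem wval_pm_eq_of_eqRange {B w : ℕ} {ns : List Net} (h : netsOK B ns = true) (hB : B ≤ 2 ^ w)
    {E : List (List ℕ × List ℕ)} (hE : ∀ i, 0 ≤ i → i < w → eqPlane ns B w E i = true) :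
    ∀ e ∈ E, wval (pm ns) e.1 = wval (pm ns) e.2 :=
  wval_pm_eq_of_eqPlane h hB fun j hj => hE j (Nat.zero_le _) hj

theorem forall_split {α : Type} {P : α → Prop} {E : List α} {n k k' : ℕ}
    (h : ∀ e ∈ takeL n (dropL k E), P e) (hk : k + n = k') (ht : ∀ e ∈ dropL k' E, P e) :
    ∀ e ∈ dropL k E, P e := by
  intro e he
  simp only [takeL_eq, dropL_eq] at *
  rw [← List.take_append_drop n (E.drop k), List.mem_append, List.drop_drop, hk] at he
  exact he.elim (h e) (ht e)

theorem forall_end {α : Type} {P : α → Prop} {E : List α} {n : ℕ} (h : Nat.ble (lenL E) n = true) :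
    ∀ e ∈ dropL n E, P e := by
  rw [ble_iff, lenL_eq] at h
  rw [dropL_eq, List.drop_eq_nil_of_le h]; simp

theorem forall_start {α : Type} {P : α → Prop} {E : List α} (h : ∀ e ∈ dropL 0 E, P e) : ∀ e ∈ E, P e := h

/-! ### inverse columns -/

/-- the first `nc` equations say `c · iv c = 1`. -/
def ivPOK (ns : List Net) (IV nc : ℕ) (E : List (List ℕ × List ℕ)) : Bool :=
  band (Nat.ble (lenL ns) nc) (band (Nat.ble nc (lenL E))
    (allLt nc fun c => band (beqL (getD' E ([], []) c).1 [c, ivT IV nc c]) (beqL (getD' E ([], []) c).2 [])))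

theorem pm_iv {ns : List Net} {IV nc : ℕ} {E : List (List ℕ × List ℕ)}
    (hE : ∀ e ∈ E, wval (pm ns) e.1 = wval (pm ns) e.2) (h : ivPOK ns IV nc E = true) (c : ℕ) :
    pm ns (ivT IV nc c) = (pm ns c)⁻¹ := by
  simp only [ivPOK, band_eq_true, ble_iff, lenL_eq] at h
  rcases le_or_gt nc c with hc | hc
  · have : ivT IV nc c = c := by simp [ivT, cnd_eq_ite, hc]
    rw [this, pm_of_le (h.1.trans hc), inv_one]
  · have h1 := allLt_spec h.2.2 c hc
    rw [band_eq_true] at h1
    have h2 : getD' E ([], []) c ∈ E := by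
      rw [getD'_eq, List.getD_eq_getElem _ _ (lt_of_lt_of_le hc h.2.1)]; exact List.getElem_mem _
    have h3 := hE _ h2
    rw [beqL_spec h1.1, beqL_spec h1.2] at h3
    exact eq_inv_of_mul_eq_one_left (by simpa using h3)

/-- column words are inverse to each other after free reduction. -/
def ivGOK (iv0 : ℕ → ℕ) (cw : List (List ℕ)) (IV nc : ℕ) : Bool :=
  band (Nat.ble (lenL cw) nc)
    (allLt nc fun c => beqL (red iv0 (appL (getD' cw [] c) (getD' cw [] (ivT IV nc c)))) [])

theorem colW_iv {G : Type*} [Group G] {γ : ℕ → G} {iv0 : ℕ → ℕ} (hiv : ∀ c, γ (iv0 c) = (γ c)⁻¹)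
    {cw : List (List ℕ)} {IV nc : ℕ} (h : ivGOK iv0 cw IV nc = true) (c : ℕ) :
    colW γ cw (ivT IV nc c) = (colW γ cw c)⁻¹ := by
  simp only [ivGOK, band_eq_true, ble_iff, lenL_eq] at h
  rcases le_or_gt nc c with hc | hc
  · have : ivT IV nc c = c := by simp [ivT, cnd_eq_ite, hc]
    rw [this, colW_of_le (h.1.trans hc), inv_one]
  · have h1 := congrArg (wval γ) (beqL_spec (allLt_spec h.2 c hc))
    rw [wval_red hiv, appL_eq, wval_append] at h1
    exact eq_inv_of_mul_eq_one_left h1

/-! ### the segment table -/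

/-- the cyclic rotation / inverse of a relator selected by the code `z`. -/
def selRel (iv : ℕ → ℕ) (rels : List (List ℕ)) (z : ℕ) : List ℕ :=
  let r := getD' rels [] (dig z 12 0)
  let r' := cnd (Nat.beq (dig z 12 2) 0) r (revMap iv r [])
  appL (dropL (dig z 12 1) r') (takeL (dig z 12 1) r')

theorem wval_selRel {G : Type*} [Group G] {γ : ℕ → G} {iv : ℕ → ℕ} (hiv : ∀ c, γ (iv c) = (γ c)⁻¹)
    {rels : List (List ℕ)} {z : ℕ} (h : wval γ (getD' rels [] (dig z 12 0)) = 1) :
    wval γ (selRel iv rels z) = 1 := by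
  unfold selRel
  simp only [appL_eq, dropL_eq, takeL_eq]
  apply wval_rotate
  rw [cnd_eq_ite]
  split_ifs
  · exact h
  · rw [wval_revMap hiv, h, inv_one]

/-- check of the segment table against the relators (`nP`: number of relators valid for the networks). -/
def segOK (iv : ℕ → ℕ) (rels : List (List ℕ)) (nP RT LT P0 CT T : ℕ) : Bool :=
  band (Nat.beq (Nat.shiftRight LT (Nat.mul 16 T)) 0)
    (allLt T fun s => cnd (Nat.beq (dig LT 16 s) 0) true
      (band (cnd (Nat.ble P0 s) true (Nat.ble (Nat.succ (dig (dig CT 36 s) 12 0)) nP))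
        (beqL (seg RT (dig LT 16 s) s) (selRel iv rels (dig CT 36 s)))))

theorem segOK_spec {iv : ℕ → ℕ} {rels : List (List ℕ)} {nP RT LT P0 CT T : ℕ}
    (h : segOK iv rels nP RT LT P0 CT T = true) (s : ℕ) :
    seg RT (dig LT 16 s) s = [] ∨ ∃ z, (s < P0 → dig z 12 0 < nP) ∧ seg RT (dig LT 16 s) s = selRel iv rels z := by
  simp only [segOK, band_eq_true, beq_iff] at h
  by_cases h0 : dig LT 16 s = 0
  · left; rw [h0]; rfl
  rcases le_or_gt T s with hs | hs
  · exfalso; apply h0
    apply Nat.eq_of_testBit_eq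
    intro p
    have h1 := congrArg (fun x => x.testBit (16 * (s - T) + p)) h.1
    simp only [testBit_shr, Nat.mul_eq] at h1
    rw [show 16 * T + (16 * (s - T) + p) = 16 * s + p by omega] at h1
    rw [testBit_dig, h1]; simp
  · right
    have h1 := allLt_spec h.2 s hs
    simp only [cnd_eq_ite, beq_iff, h0, if_false, band_eq_true, ble_iff] at h1
    refine ⟨_, fun hp => ?_, beqL_spec h1.2⟩
    have h2 := h1.1
    rw [if_neg (by omega), blt_iff] at h2
    exact h2

/-- the relators of the enumeration follow from the base relators (`ids`: indices of base relators). -/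
def relsGOK (iv0 : ℕ → ℕ) (base : List (List ℕ)) (cw : List (List ℕ)) (rels : List (List ℕ))
    (ids : List ℕ) : Bool :=
  allL2 (fun r i => beqL (red iv0 (flat cw r)) (red iv0 (getD' base [] i))) rels ids

theorem relsG_of {G : Type*} [Group G] {γ : ℕ → G} {iv0 : ℕ → ℕ} (hiv : ∀ c, γ (iv0 c) = (γ c)⁻¹)
    {base cw rels : List (List ℕ)} (hb : ∀ r ∈ base, wval γ r = 1) {ids : List ℕ}
    (h : relsGOK iv0 base cw rels ids = true) : ∀ r ∈ rels, wval (colW γ cw) r = 1 := by
  intro r hr
  obtain ⟨i, -, hi⟩ := allL2_left h r hr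
  have h1 := congrArg (wval γ) (beqL_spec hi)
  rw [wval_red hiv, wval_red hiv, wval_flat] at h1
  rw [h1]
  rcases getD'_mem_or base [] i with h2 | h2
  · exact hb _ h2
  · rw [h2]; rfl

/-- all set-up checks of a coset enumeration that do not involve the networks' action. -/
def setupOK (iv0 : ℕ → ℕ) (base cw : List (List ℕ)) (ns : List Net) (IV nc : ℕ)
    (E : List (List ℕ × List ℕ)) (A : List (List ℕ)) (ids : List ℕ) (RT LT P0 CT T : ℕ) : Bool :=
  band (Nat.ble nc 255) (band (ivPOK ns IV nc E) (band (ivGOK iv0 cw IV nc)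
    (band (relsGOK iv0 base cw (appL (mapL (joinE (ivT IV nc)) E) A) ids)
      (segOK (ivT IV nc) (appL (mapL (joinE (ivT IV nc)) E) A) (lenL E) RT LT P0 CT T))))

theorem tcHyp_of {G : Type*} [Group G] {γ : ℕ → G} {iv0 : ℕ → ℕ} (hiv : ∀ c, γ (iv0 c) = (γ c)⁻¹)
    {base : List (List ℕ)} (hb : ∀ r ∈ base, wval γ r = 1) {cw : List (List ℕ)} {B : ℕ} {ns : List Net}
    (hok : netsOK B ns = true) {E : List (List ℕ × List ℕ)}
    (hE : ∀ e ∈ E, wval (pm ns) e.1 = wval (pm ns) e.2)
    {IV nc : ℕ} {A : List (List ℕ)} {ids : List ℕ} {RT LT P0 CT T : ℕ}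
    (h : setupOK iv0 base cw ns IV nc E A ids RT LT P0 CT T = true)
    {H : Subgroup G} {HM : ℕ} (hH : ∀ c, HM.testBit c = true → colW γ cw c ∈ H) :
    TCHyp (colW γ cw) H B ns (ivT IV nc) RT LT P0 HM := by
  simp only [setupOK, band_eq_true, ble_iff] at h
  obtain ⟨h0, h1, h2, h3, h4⟩ := h
  have hG := colW_iv hiv h2
  have hP := pm_iv hE h1
  have hr := relsG_of hiv hb h3
  refine ⟨hok, hG, fun c p => ?_, fun s => ?_, fun s hs p => ?_, hH, ?_⟩
  · rw [← Net.perm_apply (net_ok hok _), ← Net.perm_apply (net_ok hok _)]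
    show pm ns _ (pm ns c p) = p
    rw [hP]; simp
  · rcases segOK_spec h4 s with h5 | ⟨z, -, h5⟩
    · rw [h5]; rfl
    · rw [h5]
      apply wval_selRel hG
      rcases getD'_mem_or (appL (mapL (joinE (ivT IV nc)) E) A) [] (dig z 12 0) with h6 | h6
      · exact hr _ h6
      · rw [h6]; rfl
  · rcases segOK_spec h4 s with h5 | ⟨z, h6, h5⟩
    · rw [h5]; rfl
    · rw [h5, ← wval_pm_apply hok, wval_selRel hP]
      · rfl
      · have h7 := h6 hs
        rw [lenL_eq] at h7
        rw [getD'_eq, appL_eq, mapL_eq, List.getD_append _ _ _ _ (by simpa using h7),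
          List.getD_eq_getElem _ _ (by simpa using h7), List.getElem_map, wval_joinE hP,
          hE _ (List.getElem_mem _), inv_mul_cancel]
  · simp only [ivGOK, band_eq_true, ble_iff, lenL_eq] at h2
    exact colW_of_le (by omega)

/-- the columns in the mask `HM` are, after reduction, words of `sub` or their inverses. -/
def maskOK (iv0 : ℕ → ℕ) (cw subs : List (List ℕ)) (HM nc : ℕ) (ids : List ℕ) : Bool :=
  band (Nat.ble (lenL cw) nc) (allLt nc fun c => cnd (tb HM c)
    (cnd (beqL (getD' cw [] c) (getD' subs [] (getD' ids 0 c))) true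
      (beqL (red iv0 (appL (getD' cw [] c) (getD' subs [] (getD' ids 0 c)))) [])) true)

theorem mask_mem {G : Type*} [Group G] {γ : ℕ → G} {iv0 : ℕ → ℕ} (hiv : ∀ c, γ (iv0 c) = (γ c)⁻¹)
    {cw subs : List (List ℕ)} {HM nc : ℕ} {ids : List ℕ} (h : maskOK iv0 cw subs HM nc ids = true)
    (c : ℕ) (hc : HM.testBit c = true) : colW γ cw c ∈ gen γ subs := by
  simp only [maskOK, band_eq_true, ble_iff, lenL_eq] at h
  rcases le_or_gt nc c with h1 | h1
  · rw [colW_of_le (h.1.trans h1)]; exact Subgroup.one_mem _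
  have h2 := allLt_spec h.2 c h1
  have h3 : wval γ (getD' subs [] (getD' ids 0 c)) ∈ gen γ subs := by
    rcases getD'_mem_or subs [] (getD' ids 0 c) with h3 | h3
    · exact wval_mem_gen _ h3
    · rw [h3]; exact Subgroup.one_mem _
  rw [tb_eq, hc, cnd_true, cnd_eq_ite] at h2
  split_ifs at h2 with h4
  · rw [colW, beqL_spec h4]; exact h3
  · have h5 := congrArg (wval γ) (beqL_spec h2)
    rw [wval_red hiv, appL_eq, wval_append] at h5
    rw [colW, eq_inv_of_mul_eq_one_right h5]
    exact Subgroup.inv_mem _ h3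

/-! ### word expressions -/

/-- group words with powers and inverses. -/
inductive WE : Type
  | g (c : ℕ) : WE
  | mul (a b : WE) : WE
  | inv (a : WE) : WE
  | pow (a : WE) (n : ℕ) : WE
  deriving DecidableEq

/-- value of a word expression. -/
def WE.eval {G : Type*} [Group G] (γ : ℕ → G) : WE → G
  | g c => γ c
  | mul a b => a.eval γ * b.eval γ
  | inv a => (a.eval γ)⁻¹
  | pow a n => (a.eval γ) ^ n

/-- the flattened word (walk order). -/
def WE.toL (iv : ℕ → ℕ) (e : WE) : List ℕ :=
  @WE.rec (fun _ => List ℕ) (fun c => [c]) (fun _ _ a b => appL b a) (fun _ a => revMap iv a [])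
    (fun _ n a => pw a n) e

theorem WE.wval_toL {G : Type*} [Group G] {γ : ℕ → G} {iv : ℕ → ℕ} (hiv : ∀ c, γ (iv c) = (γ c)⁻¹)
    (e : WE) : wval γ (e.toL iv) = e.eval γ := by
  induction e with
  | g c => show wval γ [c] = γ c; simp
  | mul a b iha ihb =>
    show wval γ (appL (b.toL iv) (a.toL iv)) = _
    rw [appL_eq, wval_append, iha, ihb]; rfl
  | inv a ih => show wval γ (revMap iv (a.toL iv) []) = _; rw [wval_revMap hiv, ih]; rfl
  | pow a n ih => show wval γ (pw (a.toL iv) n) = _; rw [wval_pw, ih]; rfl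

theorem WE.map_eval {G G' : Type*} [Group G] [Group G'] (f : G →* G') (γ : ℕ → G) (e : WE) :
    f (e.eval γ) = e.eval (fun c => f (γ c)) := by
  induction e with
  | g c => rfl
  | mul a b iha ihb => simp [WE.eval, iha, ihb]
  | inv a ih => simp [WE.eval, ih]
  | pow a n ih => simp [WE.eval, ih]

/-- the base relators: Coxeter relators `(i j)^m` and further word expressions. -/
def baseRels (iv : ℕ → ℕ) (prs : List (ℕ × ℕ × ℕ)) (ex : List WE) : List (List ℕ) :=
  appL (mapL (fun t => pw [t.2.1, t.1] t.2.2) prs) (mapL (WE.toL iv) ex)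

theorem baseRels_of {G : Type*} [Group G] {γ : ℕ → G} {iv : ℕ → ℕ} (hiv : ∀ c, γ (iv c) = (γ c)⁻¹)
    {prs : List (ℕ × ℕ × ℕ)} {ex : List WE} (hp : ∀ t ∈ prs, (γ t.1 * γ t.2.1) ^ t.2.2 = 1)
    (he : ∀ e ∈ ex, e.eval γ = 1) : ∀ r ∈ baseRels iv prs ex, wval γ r = 1 := by
  intro r hr
  simp only [baseRels, appL_eq, mapL_eq, List.mem_append, List.mem_map] at hr
  rcases hr with ⟨t, ht, rfl⟩ | ⟨e, he', rfl⟩
  · rw [wval_pw]
    simpa using hp t ht
  · rw [WE.wval_toL hiv, he e he']

theorem rels_append {G : Type*} [Group G] {γ : ℕ → G} {l k : List (List ℕ)}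
    (hl : ∀ r ∈ l, wval γ r = 1) (hk : ∀ r ∈ k, wval γ r = 1) : ∀ r ∈ appL l k, wval γ r = 1 := by
  intro r hr
  rw [appL_eq, List.mem_append] at hr
  exact hr.elim (hl r) (hk r)

/-- pack the columns of a state. -/
def packK (B : ℕ) (l : List ℕ) : ℕ :=
  @List.rec ℕ (fun _ => ℕ) 0 (fun x _ ih => Nat.lor x (Nat.shiftLeft ih B)) l

/-- `lo + hi * 2 ^ n` (for splitting long literals). -/
def cat (n lo hi : ℕ) : ℕ := Nat.lor lo (Nat.shiftLeft hi n)

/-! ### Coxeter-type presentations -/

section cox
open Cfsg.Spor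
variable {α : Type} [DecidableEq α]

/-- the free-group element of a column. -/
def colF (cl : List (α × Bool)) (c : ℕ) : FreeGroup α :=
  match cl[c]? with
  | some (x, true) => FreeGroup.of x
  | some (x, false) => (FreeGroup.of x)⁻¹
  | none => 1

/-- the columns of a Coxeter-type presented group. -/
def coxγ (edges : List (α × ℕ × α)) (extra : List (FreeGroup α)) (cl : List (α × Bool)) (c : ℕ) :
    CoxPresented α edges extra := PresentedGroup.mk _ (colF cl c)

/-- consistency of the column data with the presentation. -/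
structure CoxData (edges : List (α × ℕ × α)) (extra : List (FreeGroup α)) (cl : List (α × Bool))
    (idx : α → ℕ) (IV : ℕ) (prs : List (ℕ × ℕ × ℕ)) (ex : List WE) : Prop where
  idx_spec : ∀ x, cl[idx x]? = some (x, true)
  col_spec : ∀ c (h : c < cl.length), (cl[c].2 = true → idx cl[c].1 = c) ∧
    (cl[c].2 = false → c = ivT IV cl.length (idx cl[c].1))
  iv_spec : ∀ c (h : c < cl.length), (cl[ivT IV cl.length c]? = some (cl[c].1, !cl[c].2)) ∨
    (ivT IV cl.length c = c ∧ (cl[c].1 ∈ coxNodes edges ∨ WE.pow (WE.g c) 2 ∈ ex))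
  prs_spec : ∀ t ∈ prs, ∃ x ∈ coxNodes edges, ∃ y ∈ coxNodes edges,
    t = (idx x, idx y, coxLabel edges x y)
  prs_all : ∀ x ∈ coxNodes edges, ∀ y ∈ coxNodes edges,
    (idx x, idx y, coxLabel edges x y) ∈ prs ∨ (idx y, idx x, coxLabel edges x y) ∈ prs
  ex_spec : ex.map (WE.eval (colF cl)) = extra

variable {edges : List (α × ℕ × α)} {extra : List (FreeGroup α)} {cl : List (α × Bool)}
  {idx : α → ℕ} {IV : ℕ} {prs : List (ℕ × ℕ × ℕ)} {ex : List WE}

omit [DecidableEq α] in
theorem colF_of_eq {c : ℕ} {x : α} (h : cl[c]? = some (x, true)) : colF cl c = FreeGroup.of x := by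
  simp [colF, h]

theorem CoxData.γ_idx (hd : CoxData edges extra cl idx IV prs ex) (x : α) :
    coxγ edges extra cl (idx x) = PresentedGroup.of x := by
  rw [coxγ, colF_of_eq (hd.idx_spec x)]; rfl

theorem cox_rel {x y : α} (hx : x ∈ coxNodes edges) (hy : y ∈ coxNodes edges) :
    ((PresentedGroup.of x : CoxPresented α edges extra) * PresentedGroup.of y) ^ coxLabel edges x y = 1 := by
  have h : PresentedGroup.mk (coxRelators edges ∪ {r | r ∈ extra})
      ((FreeGroup.of x * FreeGroup.of y) ^ coxLabel edges x y) = 1 :=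
    PresentedGroup.one_of_mem (Or.inl ⟨x, hx, y, hy, rfl⟩)
  rw [map_pow, map_mul] at h
  exact h

theorem CoxData.eval_ex (hd : CoxData edges extra cl idx IV prs ex) {e : WE} (he : e ∈ ex) :
    e.eval (coxγ edges extra cl) = 1 := by
  have h : e.eval (colF cl) ∈ extra := by
    rw [← hd.ex_spec]; exact List.mem_map_of_mem he
  have h1 : PresentedGroup.mk (coxRelators edges ∪ {r | r ∈ extra}) (e.eval (colF cl)) = 1 :=
    PresentedGroup.one_of_mem (Or.inr h)
  rw [WE.map_eval] at h1
  exact h1

theorem CoxData.ivG (hd : CoxData edges extra cl idx IV prs ex) (c : ℕ) :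
    coxγ edges extra cl (ivT IV cl.length c) = (coxγ edges extra cl c)⁻¹ := by
  rcases le_or_gt cl.length c with hc | hc
  · have : ivT IV cl.length c = c := by simp [ivT, cnd_eq_ite, hc]
    rw [this, coxγ, colF, List.getElem?_eq_none hc]; simp
  rcases hd.iv_spec c hc with h | ⟨h, h1 | h1⟩
  · rw [coxγ, coxγ, colF, colF, h, List.getElem?_eq_getElem hc]
    rcases cl[c] with ⟨x, _ | _⟩ <;> simp
  · rw [h]
    have h2 := cox_rel (extra := extra) h1 h1
    have h3 : coxLabel edges cl[c].1 cl[c].1 = 1 := by simp [coxLabel]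
    rw [h3, pow_one] at h2
    rw [coxγ, colF, List.getElem?_eq_getElem hc]
    revert h2
    rcases cl[c] with ⟨x, _ | _⟩
    · intro h2
      simp only [map_inv, inv_inv]
      exact (eq_inv_of_mul_eq_one_left h2).symm
    · intro h2
      exact eq_inv_of_mul_eq_one_left h2
  · rw [h]
    have h2 := hd.eval_ex h1
    simp only [WE.eval, pow_two] at h2
    exact eq_inv_of_mul_eq_one_left h2

theorem CoxData.base_rels (hd : CoxData edges extra cl idx IV prs ex) :
    ∀ r ∈ baseRels (ivT IV cl.length) prs ex, wval (coxγ edges extra cl) r = 1 := by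
  intro r hr
  simp only [baseRels, appL_eq, mapL_eq, List.mem_append, List.mem_map] at hr
  rcases hr with ⟨t, ht, rfl⟩ | ⟨e, he, rfl⟩
  · obtain ⟨x, hx, y, hy, rfl⟩ := hd.prs_spec t ht
    rw [wval_pw]
    simp only [wval_cons, wval_nil, one_mul, hd.γ_idx]
    exact cox_rel hx hy
  · rw [WE.wval_toL hd.ivG, hd.eval_ex he]

theorem CoxData.genLt_eq_top (hd : CoxData edges extra cl idx IV prs ex) :
    genLt (coxγ edges extra cl) cl.length = ⊤ := by
  rw [eq_top_iff, ← PresentedGroup.closure_range_of, genLt]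
  apply Subgroup.closure_mono
  rintro _ ⟨x, rfl⟩
  refine ⟨idx x, ?_, hd.γ_idx x⟩
  have := hd.idx_spec x
  by_contra h
  rw [List.getElem?_eq_none (by simpa using h)] at this
  exact absurd this (by simp)

/-- a homomorphism out of the presented group from elements satisfying the base relators. -/
theorem CoxData.exists_hom (hd : CoxData edges extra cl idx IV prs ex) {M : Type*} [Group M] (μ : ℕ → M)
    (hiv : ∀ c, μ (ivT IV cl.length c) = (μ c)⁻¹) (h1 : ∀ c, cl.length ≤ c → μ c = 1)
    (hr : ∀ r ∈ baseRels (ivT IV cl.length) prs ex, wval μ r = 1) :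
    ∃ φ : CoxPresented α edges extra →* M, ∀ c, φ (coxγ edges extra cl c) = μ c := by
  have hcol : ∀ c, FreeGroup.lift (fun x => μ (idx x)) (colF cl c) = μ c := by
    intro c
    rcases le_or_gt cl.length c with hc | hc
    · rw [colF, List.getElem?_eq_none hc, h1 c hc]; simp
    · have h2 := hd.col_spec c hc
      rw [colF, List.getElem?_eq_getElem hc]
      revert h2
      rcases cl[c] with ⟨x, _ | _⟩
      · intro h2
        have h3 := h2.2 rfl
        simp only [map_inv, FreeGroup.lift_apply_of]
        rw [← hiv]; exact congrArg μ h3.symm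
      · intro h2
        simp only [FreeGroup.lift_apply_of]
        exact congrArg μ (h2.1 rfl)
  have hrel : ∀ r ∈ coxRelators edges ∪ {r | r ∈ extra}, FreeGroup.lift (fun x => μ (idx x)) r = 1 := by
    rintro r (⟨x, hx, y, hy, rfl⟩ | hr')
    · simp only [map_pow, map_mul, FreeGroup.lift_apply_of]
      rcases hd.prs_all x hx y hy with h2 | h2
      · have h3 := hr _ (by
          simp only [baseRels, appL_eq, mapL_eq, List.mem_append, List.mem_map]
          exact Or.inl ⟨_, h2, rfl⟩)
        rw [wval_pw] at h3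
        simpa using h3
      · have h3 := hr _ (by
          simp only [baseRels, appL_eq, mapL_eq, List.mem_append, List.mem_map]
          exact Or.inl ⟨_, h2, rfl⟩)
        rw [wval_pw] at h3
        simp only [wval_cons, wval_nil, one_mul] at h3
        have h4 : μ (idx x) * μ (idx y) = (μ (idx y))⁻¹ * (μ (idx y) * μ (idx x)) * (μ (idx y))⁻¹⁻¹ := by
          group
        rw [h4, conj_pow, h3]; simp
    · have hr2 : r ∈ ex.map (WE.eval (colF cl)) := by rw [hd.ex_spec]; exact hr'
      obtain ⟨e, he, rfl⟩ := List.mem_map.1 hr2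
      rw [WE.map_eval]
      simp only [hcol]
      rw [← WE.wval_toL hiv]
      apply hr
      simp only [baseRels, appL_eq, mapL_eq, List.mem_append, List.mem_map]
      exact Or.inr ⟨e, he, rfl⟩
  refine ⟨PresentedGroup.toGroup hrel, fun c => ?_⟩
  rw [← hcol c]; rfl

/-- every base relator is (after reduction) one of the checked equations. -/
def coverOK (iv : ℕ → ℕ) (base : List (List ℕ)) (E : List (List ℕ × List ℕ)) (ids : List ℕ) : Bool :=
  allL2 (fun r i => beqL (red iv r) (red iv (joinE iv (getD' E ([], []) i)))) base ids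

theorem cover_spec {M : Type*} [Group M] {μ : ℕ → M} {iv : ℕ → ℕ} (hiv : ∀ c, μ (iv c) = (μ c)⁻¹)
    {base : List (List ℕ)} {E : List (List ℕ × List ℕ)} (hE : ∀ e ∈ E, wval μ e.1 = wval μ e.2)
    {ids : List ℕ} (h : coverOK iv base E ids = true) : ∀ r ∈ base, wval μ r = 1 := by
  intro r hr
  obtain ⟨i, -, hi⟩ := allL2_left h r hr
  have h1 := congrArg (wval μ) (beqL_spec hi)
  rw [wval_red hiv, wval_red hiv, wval_joinE hiv] at h1
  rw [h1]
  rcases getD'_mem_or E ([], []) i with h2 | h2
  · rw [hE _ h2, inv_mul_cancel]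
  · rw [h2]; simp

/-- the permutation representation of a presented group defined by networks. -/
theorem CoxData.exists_rep (hd : CoxData edges extra cl idx IV prs ex) {B : ℕ} {ns : List Net}
    (hok : netsOK B ns = true) {E : List (List ℕ × List ℕ)}
    (hE : ∀ e ∈ E, wval (pm ns) e.1 = wval (pm ns) e.2) {ids : List ℕ}
    (h : band (ivPOK ns IV cl.length E)
      (coverOK (ivT IV cl.length) (baseRels (ivT IV cl.length) prs ex) E ids) = true) :
    ∃ ρ : Rep (CoxPresented α edges extra), ρ.B = B ∧ ρ.ns = ns ∧ ρ.γ = coxγ edges extra cl := by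
  rw [band_eq_true] at h
  have hP := pm_iv hE h.1
  have hl : ns.length ≤ cl.length := by
    have := h.1
    simp only [ivPOK, band_eq_true, ble_iff, lenL_eq] at this
    exact this.1
  obtain ⟨φ, hφ⟩ := hd.exists_hom (pm ns) hP (fun c hc => pm_of_le (hl.trans hc)) (cover_spec hP hE h.2)
  exact ⟨⟨B, ns, _, φ, hok, hφ⟩, rfl, rfl, rfl⟩

/-- the representation as a structure with the given networks. -/
def CoxData.rep (hd : CoxData edges extra cl idx IV prs ex) {B : ℕ} {ns : List Net}
    (hok : netsOK B ns = true) {E : List (List ℕ × List ℕ)}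
    (hE : ∀ e ∈ E, wval (pm ns) e.1 = wval (pm ns) e.2) {ids : List ℕ}
    (h : band (ivPOK ns IV cl.length E)
      (coverOK (ivT IV cl.length) (baseRels (ivT IV cl.length) prs ex) E ids) = true) :
    Rep (CoxPresented α edges extra) where
  B := B
  ns := ns
  γ := coxγ edges extra cl
  φ := (hd.exists_rep hok hE h).choose.φ
  ok := hok
  compat := fun c => by
    obtain ⟨-, h2, h3⟩ := (hd.exists_rep hok hE h).choose_spec
    have h4 := (hd.exists_rep hok hE h).choose.compat c
    rw [h2, h3] at h4; exact h4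

end cox

end

end CL.CGT
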