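import Cfsg.Agent.CGT.Coset

/-!
# The universal group of a list of relators; permutation realisations
-/

namespace CL.CGT

noncomputable section

/-- relators of the universal group with letters `0, …, nc-1`, inverse table `iv` and relators `base`. -/
def lpRels (iv : ℕ → ℕ) (nc : ℕ) (base : List (List ℕ)) : Set (FreeGroup ℕ) :=
  {r | (∃ c, r = FreeGroup.of (iv c) * FreeGroup.of c) ∨ (∃ c, nc ≤ c ∧ r = FreeGroup.of c) ∨
    ∃ w ∈ base, r = wval FreeGroup.of w}

/-- the universal group. -/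
def LP (iv : ℕ → ℕ) (nc : ℕ) (base : List (List ℕ)) : Type := PresentedGroup (lpRels iv nc base)

instance LP.instGroup (iv : ℕ → ℕ) (nc : ℕ) (base : List (List ℕ)) : Group (LP iv nc base) :=
  inferInstanceAs (Group (PresentedGroup (lpRels iv nc base)))

namespace LP
variable (iv : ℕ → ℕ) (nc : ℕ) (base : List (List ℕ))

/-- the generators. -/
def γ (c : ℕ) : LP iv nc base := PresentedGroup.of (rels := lpRels iv nc base) c

theorem hiv (c : ℕ) : γ iv nc base (iv c) = (γ iv nc base c)⁻¹ := by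
  have h : PresentedGroup.mk (lpRels iv nc base) (FreeGroup.of (iv c) * FreeGroup.of c) = 1 :=
    PresentedGroup.one_of_mem (Or.inl ⟨c, rfl⟩)
  rw [map_mul] at h
  exact eq_inv_of_mul_eq_one_left h

theorem γ_of_le {c : ℕ} (hc : nc ≤ c) : γ iv nc base c = 1 :=
  PresentedGroup.one_of_mem (rels := lpRels iv nc base) (Or.inr (Or.inl ⟨c, hc, rfl⟩))

theorem hb : ∀ r ∈ base, wval (γ iv nc base) r = 1 := by
  intro r hr
  have h : PresentedGroup.mk (lpRels iv nc base) (wval FreeGroup.of r) = 1 :=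
    PresentedGroup.one_of_mem (Or.inr (Or.inr ⟨r, hr, rfl⟩))
  rw [wval_map] at h
  exact h

theorem genLt_top : genLt (γ iv nc base) nc = ⊤ := by
  rw [eq_top_iff]
  have h : Subgroup.closure (Set.range (γ iv nc base)) = ⊤ :=
    PresentedGroup.closure_range_of (lpRels iv nc base)
  rw [← h, Subgroup.closure_le]
  rintro _ ⟨c, rfl⟩
  rcases le_or_gt nc c with hc | hc
  · rw [γ_of_le iv nc base hc]; exact Subgroup.one_mem _
  · exact Subgroup.subset_closure ⟨c, hc, rfl⟩

variable {iv nc base}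

/-- the universal property. -/
def lift {M : Type*} [Group M] (μ : ℕ → M) (hiv : ∀ c, μ (iv c) = (μ c)⁻¹) (h1 : ∀ c, nc ≤ c → μ c = 1)
    (hb : ∀ r ∈ base, wval μ r = 1) : LP iv nc base →* M :=
  PresentedGroup.toGroup (f := μ) (rels := lpRels iv nc base) (by
    rintro r (⟨c, rfl⟩ | ⟨c, hc, rfl⟩ | ⟨w, hw, rfl⟩)
    · simp [hiv]
    · simp [h1 c hc]
    · rw [wval_map]; simpa using hb w hw)

@[simp] theorem lift_γ {M : Type*} [Group M] (μ : ℕ → M) (hiv : ∀ c, μ (iv c) = (μ c)⁻¹)
    (h1 : ∀ c, nc ≤ c → μ c = 1) (hb : ∀ r ∈ base, wval μ r = 1) (c : ℕ) :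
    lift μ hiv h1 hb (γ iv nc base c) = μ c :=
  PresentedGroup.toGroup.of _

theorem lift_wval {M : Type*} [Group M] (μ : ℕ → M) (hiv : ∀ c, μ (iv c) = (μ c)⁻¹)
    (h1 : ∀ c, nc ≤ c → μ c = 1) (hb : ∀ r ∈ base, wval μ r = 1) (w : List ℕ) :
    lift μ hiv h1 hb (wval (γ iv nc base) w) = wval μ w := by
  rw [wval_map]; simp

theorem range_lift {M : Type*} [Group M] (μ : ℕ → M) (hiv : ∀ c, μ (iv c) = (μ c)⁻¹)
    (h1 : ∀ c, nc ≤ c → μ c = 1) (hb : ∀ r ∈ base, wval μ r = 1) :
    (lift μ hiv h1 hb).range = genLt μ nc := by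
  rw [MonoidHom.range_eq_map, ← genLt_top iv nc base, genLt, genLt, MonoidHom.map_closure, Set.image_image]
  simp

/-- the permutation representation given by networks. -/
def rep {IV : ℕ} {B : ℕ} {ns : List Net} (hok : netsOK B ns = true) {E : List (List ℕ × List ℕ)}
    (hE : ∀ e ∈ E, wval (pm ns) e.1 = wval (pm ns) e.2) {ids : List ℕ}
    (h : band (ivPOK ns IV nc E) (coverOK (ivT IV nc) base E ids) = true) : Rep (LP (ivT IV nc) nc base) where
  B := B
  ns := ns
  γ := γ (ivT IV nc) nc base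
  φ := lift (pm ns) (pm_iv hE (band_eq_true.1 h).1)
    (fun c hc => pm_of_le (le_trans (by
      have := (band_eq_true.1 h).1
      simp only [ivPOK, band_eq_true, ble_iff, lenL_eq] at this
      exact this.1) hc))
    (cover_spec (pm_iv hE (band_eq_true.1 h).1) hE (band_eq_true.1 h).2)
  ok := hok
  compat := fun _ => lift_γ _ _ _ _ _

end LP

theorem gen_map {G G' : Type*} [Group G] [Group G'] (f : G →* G') (γ : ℕ → G) (gens : List (List ℕ)) :
    (gen γ gens).map f = gen (fun c => f (γ c)) gens := by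
  rw [gen, gen, MonoidHom.map_closure]
  congr 1
  ext g
  simp only [Set.mem_image, Set.mem_ofPred_eq, exists_exists_and_eq_and, wval_map]

theorem gen_colW {G : Type*} [Group G] (γ : ℕ → G) (cw gens : List (List ℕ)) :
    gen (colW γ cw) gens = gen γ (mapL (flat cw) gens) := by
  rw [gen, gen, mapL_eq]
  congr 1
  ext g
  simp only [List.mem_map, Set.mem_ofPred_eq, exists_exists_and_eq_and, wval_flat]

/-- the single letters below `n`. -/
def sgl (n : ℕ) : List (List ℕ) := @Nat.rec (fun _ => List (List ℕ)) [] (fun i ih => appL ih [[i]]) n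

theorem mem_sgl {n : ℕ} {w : List ℕ} : w ∈ sgl n ↔ ∃ c < n, w = [c] := by
  induction n with
  | zero => simp [sgl]
  | succ n ih =>
    have e : sgl (n + 1) = appL (sgl n) [[n]] := rfl
    rw [e, appL_eq, List.mem_append, ih, List.mem_singleton]
    constructor
    · rintro (⟨c, hc, rfl⟩ | rfl)
      · exact ⟨c, by omega, rfl⟩
      · exact ⟨n, by omega, rfl⟩
    · rintro ⟨c, hc, rfl⟩
      rcases Nat.lt_succ_iff_lt_or_eq.1 hc with h | rfl
      · exact Or.inl ⟨c, h, rfl⟩
      · exact Or.inr rfl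

theorem gen_sgl {G : Type*} [Group G] (γ : ℕ → G) (n : ℕ) : gen γ (sgl n) = genLt γ n := by
  rw [gen, genLt]
  congr 1
  ext g
  simp only [mem_sgl, Set.mem_ofPred_eq, Set.mem_image, Set.mem_Iio]
  constructor
  · rintro ⟨_, ⟨c, hc, rfl⟩, rfl⟩; exact ⟨c, hc, by simp⟩
  · rintro ⟨c, hc, rfl⟩; exact ⟨_, ⟨c, hc, rfl⟩, by simp⟩

/-- every word of `l` is (up to free reduction and inversion) a word of `k`. -/
def subL (iv : ℕ → ℕ) (l k : List (List ℕ)) (ids : List ℕ) : Bool :=
  allL2 (fun w i => cnd (beqL (red iv w) (red iv (getD' k [] i))) true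
    (beqL (red iv (appL w (getD' k [] i))) [])) l ids

theorem gen_le_of_subL {G : Type*} [Group G] {γ : ℕ → G} {iv : ℕ → ℕ} (hiv : ∀ c, γ (iv c) = (γ c)⁻¹)
    {l k : List (List ℕ)} {ids : List ℕ} (h : subL iv l k ids = true) : gen γ l ≤ gen γ k := by
  rw [gen_le]
  intro w hw
  obtain ⟨i, -, hi⟩ := allL2_left h w hw
  have h3 : wval γ (getD' k [] i) ∈ gen γ k := by
    rcases getD'_mem_or k [] i with h3 | h3
    · exact wval_mem_gen _ h3
    · rw [h3]; exact Subgroup.one_mem _
  rw [cnd_eq_ite] at hi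
  split_ifs at hi with h4
  · have h5 := congrArg (wval γ) (beqL_spec h4)
    rw [wval_red hiv, wval_red hiv] at h5
    rw [h5]; exact h3
  · have h5 := congrArg (wval γ) (beqL_spec hi)
    rw [wval_red hiv, appL_eq, wval_append] at h5
    rw [eq_inv_of_mul_eq_one_right h5]
    exact Subgroup.inv_mem _ h3

/-- order bound along a chain of coset enumerations. -/
theorem card_le_step {G : Type*} [Group G] {H H' K : Subgroup G} {N m : ℕ}
    (h : H.relIndex K ≠ 0 ∧ H.relIndex K ≤ N) (hle : H ≤ H') (hH : Finite H' ∧ Nat.card H' ≤ m) :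
    Finite K ∧ Nat.card K ≤ N * m := by
  have := hH.1
  have h1 : Finite H := Finite.of_injective _ (Subgroup.inclusion_injective hle)
  exact card_le_of_relIndex h ⟨h1, (Subgroup.card_le_of_le hle).trans hH.2⟩

/-! ### new columns -/

/-- the equations `w_i = column (n + i)`. -/
def extE (n : ℕ) (ws : List (List ℕ)) : List (List ℕ × List ℕ) :=
  @List.rec (List ℕ) (fun _ => ℕ → List (List ℕ × List ℕ)) (fun _ => [])
    (fun w _ ih k => (w, [k]) :: ih (Nat.succ k)) ws n

theorem mem_extE {n : ℕ} {ws : List (List ℕ)} {i : ℕ} (hi : i < ws.length) : (ws[i], [n + i]) ∈ extE n ws := by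
  induction ws generalizing n i with
  | nil => simp at hi
  | cons w ws ih =>
    have e : extE n (w :: ws) = (w, [n]) :: extE (n + 1) ws := rfl
    rw [e]
    cases i with
    | zero => exact List.mem_cons_self
    | succ i =>
      refine List.mem_cons_of_mem _ ?_
      have := ih (n := n + 1) (i := i) (by simpa using hi)
      rwa [show n + 1 + i = n + (i + 1) by omega] at this

/-- the values of old and new columns. -/
def extγ {G : Type*} [Group G] (γ : ℕ → G) (n : ℕ) (ws : List (List ℕ)) (c : ℕ) : G :=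
  if c < n then γ c else wval γ (getD' ws [] (c - n))

/-- add columns `n, n+1, …` for the words `ws` (in the letters `< n`). -/
def Rep.addCols {G : Type*} [Group G] (ρ : Rep G) (n : ℕ) (ws : List (List ℕ)) (ns' : List Net)
    (hok : netsOK ρ.B (appL ρ.ns ns') = true)
    (h : band (band (Nat.beq (lenL ρ.ns) n) (Nat.beq (lenL ns') (lenL ws)))
      (allL ws fun w => allL w fun c => Nat.ble (Nat.succ c) n) = true)
    (hE : ∀ e ∈ extE n ws, wval (pm (appL ρ.ns ns')) e.1 = wval (pm (appL ρ.ns ns')) e.2) : Rep G where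
  B := ρ.B
  ns := appL ρ.ns ns'
  γ := extγ ρ.γ n ws
  φ := ρ.φ
  ok := hok
  compat := fun c => by
    simp only [band_eq_true, beq_iff, lenL_eq] at h
    obtain ⟨⟨h1, h2⟩, h3⟩ := h
    have hlt : ∀ c < n, pm (appL ρ.ns ns') c = pm ρ.ns c := by
      intro c hc
      rw [pm, pm, net, net, getD'_eq, getD'_eq, appL_eq, List.getD_append _ _ _ _ (by omega)]
    unfold extγ
    split_ifs with hc
    · rw [hlt c hc, ρ.compat]
    · rcases le_or_gt ws.length (c - n) with h4 | h4
      · rw [getD'_eq, List.getD_eq_default _ _ h4, pm_of_le (by rw [appL_eq, List.length_append]; omega)]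
        simp
      · have h5 := hE _ (mem_extE (n := n) h4)
        simp only [wval_cons, wval_nil, one_mul] at h5
        rw [show n + (c - n) = c by omega] at h5
        rw [getD'_eq, List.getD_eq_getElem _ _ h4, ρ.φ_wval, ← h5]
        exact wval_congr _ fun x hx =>
          (hlt x (blt_iff.1 (allL_spec (allL_spec h3 _ (List.getElem_mem h4)) x hx))).symm

/-! ### permutation realisations on `Fin N` -/

theorem exists_perm_realization {G : Type*} [Group G] {H : Subgroup G} {N : ℕ} [NeZero N] (hN : H.index = N)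
    (hcore : H.normalCore = ⊥) :
    ∃ (P : Subgroup (Equiv.Perm (Fin N))) (e : G ≃* P), MulAction.IsPretransitive P (Fin N) ∧
      ∀ g : G, e g ∈ MulAction.stabilizer P (0 : Fin N) ↔ g ∈ H := by
  have hfin : Finite (G ⧸ H) := Nat.finite_of_card_ne_zero (by
    rw [← Subgroup.index_eq_card, hN]; exact NeZero.ne N)
  obtain ⟨f0⟩ : Nonempty ((G ⧸ H) ≃ Fin N) := ⟨Finite.equivFinOfCardEq hN⟩
  let f : (G ⧸ H) ≃ Fin N := f0.trans (Equiv.swap (f0 ((1 : G) : G ⧸ H)) 0)
  have hf : f ((1 : G) : G ⧸ H) = 0 := by simp [f]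
  let ψ : G →* Equiv.Perm (Fin N) := (Equiv.permCongrHom f).toMonoidHom.comp (MulAction.toPermHom G (G ⧸ H))
  have hψ : ∀ g q, ψ g (f q) = f (g • q) := by intro g q; simp [ψ]
  have hinj : Function.Injective ψ := by
    refine (Equiv.permCongrHom f).injective.comp ?_
    rw [← MonoidHom.ker_eq_bot_iff, ← Subgroup.normalCore_eq_ker, hcore]
  refine ⟨ψ.range, MonoidHom.ofInjective hinj, ⟨fun x y => ?_⟩, fun g => ?_⟩
  · obtain ⟨g, hg⟩ := MulAction.exists_smul_eq G (f.symm x) (f.symm y)
    refine ⟨⟨ψ g, g, rfl⟩, ?_⟩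
    show ψ g x = y
    rw [← f.apply_symm_apply x, hψ, hg, f.apply_symm_apply]
  · show ψ g 0 = 0 ↔ _
    rw [← hf, hψ, f.injective.eq_iff, MulAction.Quotient.smul_coe, eq_comm, QuotientGroup.eq]
    simp

end

end CL.CGT
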